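import Groth.Agent.Lib.DecSh.MuBound
import Groth.Agent.Lib.CurveBundle.Rank
import Groth.Agent.Lib.GrpSch.SmoothReduced

/-!
# Slope bounds from semistability of tensor fields
-/

set_option autoImplicit false
universe u

open CategoryTheory Limits AlgebraicGeometry

namespace Groth.Agent.Lib.DecShLib.Apps

open Groth.Agent.Lib

variable {k : Type u} [Field k] {X : Scheme.{u}} [X.Over (Spec (CommRingCat.of k))]
  [IsProper (X ↘ Spec (CommRingCat.of k))] {L E D : X.Modules} {a b : ℕ}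

/-- The multiplicities of the pieces of a filtration. -/
theorem piece_bounds [IsReduced X] (hdim : topologicalKrullDim X ≤ 1)
    (hpure : ∀ x : X, ¬ IsOpen ({x} : Set X)) (hL : CohB1.IsAmple L) (hE : Coh.IsCoh E)
    (htf : TorSh.IsTorsionFree E) (𝓕 : _root_.DecSh.WFilt E)
    (hcoh : ∀ i, Coh.IsCoh ((𝓕.piece i : Subobject E) : X.Modules)) :
    (∀ i, DecSh.mult k X L (𝓕.piece i : X.Modules) ≤ DecSh.mult k X L E) ∧
      ∀ i, 1 ≤ DecSh.mult k X L (𝓕.piece i : X.Modules) :=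
  ⟨fun i => Mult.mult_le_of_mono k hdim hL (𝓕.piece i).arrow (hcoh i) hE, fun i =>
    Mult.mult_pos k hdim hpure hL (hcoh i)
      (CurveBundle.Rank.isTorsionFree_of_mono (𝓕.piece i).arrow htf) (𝓕.piece_nonzero i)⟩

/-- The inequality of semistability for a one-step filtration, with `μ` bounded below. -/
theorem msum_single_le {ok : Subobject E → Prop} {αE : ℤ} {α : Subobject E → ℤ} {dE : ℚ}
    {d : Subobject E → ℚ} {N : _root_.DecSh.NV E a} {δ : ℚ} (hδ : 0 < δ)
    (h : _root_.DecSh.IsDeltaSS ok αE α dE d N δ) (P : Subobject E) (hP : P ≠ ⊤)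
    (hP0 : ¬ IsZero (P : X.Modules)) (hok : ok P) (hE : 0 ≤ αE) :
    (αE : ℚ) * d P - (α P : ℚ) * dE ≤ δ * (a : ℚ) * ((αE : ℚ) - (α P : ℚ)) := by
  have h1 := h (_root_.DecSh.WFilt.single P hP hP0) fun _ => hok
  have h2 := mul_le_mul_of_nonneg_left
    (MuBound.single_mu_ge (α := α) P hP hP0 N hE) hδ.le
  have h3 : (_root_.DecSh.WFilt.single P hP hP0).msum αE α dE d =
      (αE : ℚ) * d P - (α P : ℚ) * dE := by
    unfold _root_.DecSh.WFilt.msum
    exact (Fin.sum_univ_one _).trans (one_mul _)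
  rw [h3] at h1
  linarith

omit [X.Over (Spec (CommRingCat.of k))] [IsProper (X ↘ Spec (CommRingCat.of k))] in
theorem mk_data {F : X.Modules} (ι : F ⟶ E) [Mono ι] (hF : Coh.IsCoh F) (hF0 : ¬ IsZero F)
    (hι : ¬ IsIso ι) :
    Subobject.mk ι ≠ ⊤ ∧ ¬ IsZero (Subobject.mk ι : X.Modules) ∧
      Coh.IsCoh (Subobject.mk ι : X.Modules) :=
  ⟨fun h => hι ((Subobject.isIso_iff_mk_eq_top ι).mpr h),
    fun h => hF0 (h.of_iso (Subobject.underlyingIso ι).symm),
    CohBasics.Closure.isCoh_of_iso (Subobject.underlyingIso ι).symm hF⟩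

/-- Slope bound from δ-semistability. -/
theorem euler_sub_le (hdim : topologicalKrullDim X ≤ 1) (hL : CohB1.IsAmple L) (hE : Coh.IsCoh E)
    (T : DecSh.TF E a b D) {δ : ℚ} (hδ : 0 < δ) (hT : T.IsSemistable k L δ) {F : X.Modules}
    (ι : F ⟶ E) [Mono ι] (hF : Coh.IsCoh F) (hF0 : ¬ IsZero F) (hι : ¬ IsIso ι) :
    (DecSh.mult k X L E : ℚ) * (Curv2.euler k X F : ℚ) -
        (DecSh.mult k X L F : ℚ) * (Curv2.euler k X E : ℚ)
      ≤ δ * (a : ℚ) * ((DecSh.mult k X L E : ℚ) - (DecSh.mult k X L F : ℚ)) := by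
  obtain ⟨h1, h2, h3⟩ := mk_data ι hF hF0 hι
  have h := msum_single_le hδ hT _ h1 h2 h3 (Mult.mult_nonneg k hdim hL hE)
  have e1 := Curves.Euler.euler_eq_of_iso (k := k) (Subobject.underlyingIso ι)
  have e2 := Mult.mult_congr k (L := L) (Subobject.underlyingIso ι)
  rw [e1, e2] at h
  exact h

/-- Slope bound from parabolic semistability. -/
theorem par_slope_le [Smooth (X ↘ Spec (CommRingCat.of k))] (hdim : topologicalKrullDim X ≤ 1)
    (hpure : ∀ x : X, ¬ IsOpen ({x} : Set X)) (hL : CohB1.IsAmple L) {r : ℕ}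
    (hE : FlatMod.IsFinLocFreeOfRank r E) {ν : ℕ} (I : Fin ν → X.IdealSheafData)
    (K : ∀ i, Submodule k (ParSh.fibD X (I i) E))
    (hK : ∀ i, Module.finrank k (ParSh.fibD X (I i) E ⧸ K i) = r)
    (κ : Fin ν → ℚ) (hκ : ∀ i, 0 < κ i ∧ κ i < 1) (T : DecSh.TF E a b D) {δ : ℚ} (hδ : 0 < δ)
    (hT : T.IsParSemistable k I K κ L δ) {F : X.Modules} (ι : F ⟶ E) [Mono ι] (hF : Coh.IsCoh F)
    (hF0 : ¬ IsZero F) (hι : ¬ IsIso ι) :
    (Curv2.euler k X F : ℚ) / (DecSh.mult k X L F : ℚ) ≤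
      (Curv2.euler k X E : ℚ) / (DecSh.mult k X L E : ℚ) + ((a : ℚ) * δ + (r : ℚ) * (ν : ℚ)) := by
  have : IsReduced X := GrpSch.isReduced_of_smooth_field (X ↘ Spec (CommRingCat.of k))
  have hEc := CurveBundle.Coherent.isCoh (TensorMod.LocFree.of_rank hE)
  have hEt := CurveBundle.Coherent.isTorsionFree (TensorMod.LocFree.of_rank hE)
  have hE0 : ¬ IsZero E := fun h => hF0 (IsZero.of_mono ι h)
  have hr : 0 < r := by
    by_contra hr
    obtain rfl : r = 0 := by omega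
    refine hE0 (Modules.Stalk.isZero_iff_stalk_subsingleton.mpr fun x => ?_)
    obtain ⟨bb⟩ := CurveBundle.Coherent.exists_basis_stalk hE x
    exact bb.equivFun.toEquiv.subsingleton
  obtain ⟨h1, h2, h3⟩ := mk_data ι hF hF0 hι
  set P := Subobject.mk ι
  have hPt : TorSh.IsTorsionFree (P : X.Modules) := CurveBundle.Rank.isTorsionFree_of_mono P.arrow hEt
  have h := msum_single_le hδ hT _ h1 h2 h3 (Mult.mult_nonneg k hdim hL hEc)
  have hpos := Mult.mult_pos k hdim hpure hL h3 hPt h2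
  have hle := Mult.mult_le_of_mono k hdim hL P.arrow h3 hEc
  have hlow : ((Curv2.euler k X (P : X.Modules) : ℚ) - (r : ℚ) * (ν : ℚ)) ≤
      DecSh.parChi k I K κ P.arrow := by
    unfold DecSh.parChi
    refine sub_le_sub_left (le_trans (Finset.sum_le_sum (g := fun _ => (r : ℚ)) fun i _ => ?_) ?_) _
    · have : FiniteDimensional k (ParSh.fibD X (I i) E ⧸ K i) :=
        Module.finite_of_finrank_pos (by rw [hK i]; exact hr)
      refine le_trans (mul_le_of_le_one_left (Nat.cast_nonneg _) (hκ i).2.le) ?_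
      exact_mod_cast (Submodule.finrank_le _).trans_eq (hK i)
    · rw [Finset.sum_const, Finset.card_univ, Fintype.card_fin, nsmul_eq_mul, mul_comm]
  have hup : DecSh.parChi k I K κ (𝟙 E) ≤ (Curv2.euler k X E : ℚ) := by
    unfold DecSh.parChi
    exact sub_le_self _ (Finset.sum_nonneg fun i _ => mul_nonneg (hκ i).1.le (Nat.cast_nonneg _))
  rw [← Curves.Euler.euler_eq_of_iso (k := k) (Subobject.underlyingIso ι),
    ← Mult.mult_congr k (L := L) (Subobject.underlyingIso ι)]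
  change (Curv2.euler k X (P : X.Modules) : ℚ) / (DecSh.mult k X L (P : X.Modules) : ℚ) ≤ _
  set A : ℚ := (DecSh.mult k X L E : ℚ)
  set Q : ℚ := (DecSh.mult k X L (P : X.Modules) : ℚ)
  have hQ : (1 : ℚ) ≤ Q := by
    simp only [Q]; exact_mod_cast hpos
  have hQA : Q ≤ A := by
    simp only [Q, A]; exact_mod_cast hle
  have hA : (0 : ℚ) < A := by linarith
  rw [div_add' _ _ _ hA.ne', div_le_div_iff₀ (by linarith) hA]
  have h4 := mul_le_mul_of_nonneg_left hlow hA.le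
  have h5 := mul_le_mul_of_nonneg_left hup (by linarith : (0 : ℚ) ≤ Q)
  have h6 : δ * (a : ℚ) * (A - Q) ≤ δ * (a : ℚ) * (A * Q) :=
    mul_le_mul_of_nonneg_left (by nlinarith) (mul_nonneg hδ.le (Nat.cast_nonneg _))
  have h7 : (r : ℚ) * (ν : ℚ) * A ≤ (r : ℚ) * (ν : ℚ) * (A * Q) :=
    mul_le_mul_of_nonneg_left (le_mul_of_one_le_right hA.le hQ) (by positivity)
  linarith

end Groth.Agent.Lib.DecShLib.Apps
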