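import Groth.Agent.Lib.DecSh.Sec
import Groth.Agent.Lib.DecSh.Apps

/-!
# Sections of large twists of bounded subsheaves, and the sectional inequality

For `G` without torsion whose subsheaves have `χ < s α` and with `α(G) ≤ α₀`, at a large twist either
`H¹(G(m)) = 0` or `h⁰(G(m)) ≤ (α(G) - 1) m + B`.
-/

set_option autoImplicit false
universe u

open CategoryTheory Limits AlgebraicGeometry

namespace Groth.Agent.Lib.DecShLib.Bound

open Groth.Agent.Lib Sec

variable (k : Type u) [Field k] {X : Scheme.{u}} [X.Over (Spec (CommRingCat.of k))]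
  [IsProper (X ↘ Spec (CommRingCat.of k))] [IsReduced X] (hdim : topologicalKrullDim X ≤ 1)
  (hpure : ∀ x : X, ¬ IsOpen ({x} : Set X)) {L : X.Modules} (hL : CohB1.IsAmple L)

omit [IsReduced X] hpure in
include hdim hL in
/-- `χ(G(m)) = χ(G) + m α(G) ≤ h⁰(G(m))`. -/
theorem euler_twist {G : X.Modules} (hG : Coh.IsCoh G) (m : ℕ) :
    Curv2.euler k X (ShStab.twist X L G m) = Curv2.euler k X G + m * DecSh.mult k X L G ∧
      Curv2.euler k X G + m * DecSh.mult k X L G ≤
        (Module.finrank k (Coh.HH X (ShStab.twist X L G m) 0) : ℤ) := by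
  have := Curves.GlobalSections.isNoetherian_of_proper k X
  have h1 := (Mult.euler_twist_pow k hdim (Ample.Pow.isAmple_iff.1 hL).1 hG m).2
  refine ⟨h1, ?_⟩
  rw [← h1, Curves.Euler.euler_eq (k := k) (Curves.Positivity.subsingleton_HH_of_two_le hdim _)]
  exact sub_le_self _ (Int.natCast_nonneg _)

omit [IsReduced X] hpure in
include hdim hL in
/-- Without `H¹` the sections are counted by `χ`. -/
theorem h0_eq {G : X.Modules} (hG : Coh.IsCoh G) (m : ℕ)
    (h : Subsingleton (Coh.HH X (ShStab.twist X L G m) 1)) :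
    (Module.finrank k (Coh.HH X (ShStab.twist X L G m) 0) : ℤ) =
      Curv2.euler k X G + m * DecSh.mult k X L G := by
  have := Curves.GlobalSections.isNoetherian_of_proper k X
  rw [← (euler_twist k hdim hL hG m).1,
    Curves.Euler.euler_eq (k := k) (Curves.Positivity.subsingleton_HH_of_two_le hdim _),
    show Curves.Euler.hdim k X (ShStab.twist X L G m) 1 = 0 from Module.finrank_zero_of_subsingleton]
  simp [Curves.Euler.hdim]

include hdim hpure hL in
/-- Either no `H¹`, or `α - 1` times the expected growth. -/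
theorem exists_dich (s α₀ : ℤ) : ∃ (B : ℤ) (N₀ : ℕ), 0 ≤ B ∧ ∀ m : ℕ, N₀ ≤ m →
    ∀ G : X.Modules, Coh.IsCoh G → NT k L G → UB k L G s → DecSh.mult k X L G ≤ α₀ →
      Subsingleton (Coh.HH X (ShStab.twist X L G m) 1) ∨
        (Module.finrank k (Coh.HH X (ShStab.twist X L G m) 0) : ℤ) ≤
          (DecSh.mult k X L G - 1) * m + B := by
  have := Curves.GlobalSections.isNoetherian_of_proper k X
  obtain ⟨C, hC⟩ := exists_h0_bound k hdim hpure hL
  obtain ⟨c, hc0, hc⟩ := exists_h1_vanish k hdim hpure hL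
  have hLi := (Ample.Pow.isAmple_iff.1 hL).1
  refine ⟨(|s + C| + (c + 1 + C)) * |α₀|, (-(s + C)).toNat,
    mul_nonneg (add_nonneg (abs_nonneg _) (by omega)) (abs_nonneg _), fun m hm G hG hT hU hα => ?_⟩
  have hA := TensorMod.Invertible.isInvertible_tensorPow hLi m
  have hG' : Coh.IsCoh (ShStab.twist X L G m) := CurveBundle.Twist.isCoh hA hG
  by_cases hq : QB k L (ShStab.twist X L G m) c
  · exact Or.inl (hc _ hG' hq)
  refine Or.inr ?_
  obtain ⟨Q, p, hp, hQ, hlt, hsub⟩ := exists_min_quot k hdim hL hG' hq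
  obtain ⟨hQU, hQT⟩ := ub_min_quot k hdim hpure hL hQ hsub
  have hQp : 0 < DecSh.mult k X L Q := by
    refine (Mult.mult_nonneg k hdim hL hQ).lt_of_ne fun h0 => ?_
    have := euler_nonneg_of_mult_zero k hdim hpure hL hQ h0.symm
    rw [← h0, mul_zero] at hlt
    omega
  have hK := CohBasics.Closure.isCoh_kernel p hG' hQ.1
  have hT' : NT k L (ShStab.twist X L G m) := nt_twist k hdim hL hA
    (fun H hH => (Mult.euler_twist_pow k hdim hLi hH m).1) hT
  have hU' : UB k L (ShStab.twist X L G m) (s + m) := ub_twist_pow k hdim hL hG m hU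
  have h1 := hC (s + m) (kernel p) hK (nt_of_mono k (kernel.ι p) hT')
    (ub_of_mono k (kernel.ι p) hU')
  have h2 := hC (c + 1) Q hQ hQT hQU
  have hS : (ShortComplex.mk (kernel.ι p) p (kernel.condition p)).ShortExact :=
    { exact := ShortComplex.exact_kernel p }
  have ha := Mult.mult_add k hLi hS hK hG' hQ
  dsimp only at ha
  rw [show DecSh.mult k X L (ShStab.twist X L G m) = DecSh.mult k X L G from
    (Mult.euler_twist_pow k hdim hLi hG m).1] at ha
  have := Snapper.Finite.cohFinite k X _ hK 0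
  have := Snapper.Finite.cohFinite k X _ hQ 0
  have h3 : (Curves.Euler.hdim k X (ShStab.twist X L G m) 0 : ℤ) ≤
      Curves.Euler.hdim k X (kernel p) 0 + Curves.Euler.hdim k X Q 0 := by
    exact_mod_cast Curves.Euler.hdim_zero_le_add (k := k) hS
  have hK0 := Mult.mult_nonneg k hdim hL hK
  rw [max_eq_right (show 0 ≤ s + m + C by omega)] at h1
  rw [max_eq_right (show 0 ≤ c + 1 + C by omega)] at h2
  have hab : DecSh.mult k X L G ≤ |α₀| := hα.trans (le_abs_self _)
  have e1 : (s + C) * DecSh.mult k X L (kernel p) ≤ |s + C| * |α₀| :=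
    (mul_le_mul_of_nonneg_right (le_abs_self _) hK0).trans
      (mul_le_mul_of_nonneg_left (by omega) (abs_nonneg _))
  have e2 : (c + 1 + C) * DecSh.mult k X L Q ≤ (c + 1 + C) * |α₀| :=
    mul_le_mul_of_nonneg_left (by omega) (by omega)
  have e3 : (m : ℤ) * DecSh.mult k X L (kernel p) ≤ (m : ℤ) * (DecSh.mult k X L G - 1) :=
    mul_le_mul_of_nonneg_left (by omega) (Int.natCast_nonneg _)
  change (Curves.Euler.hdim k X (ShStab.twist X L G m) 0 : ℤ) ≤ _
  linarith

section Abstract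

variable {C : Type*} [Category C] {E : C}

/-- The good steps obey semistability, and each bad step costs more than `δ a (αE - 1)`. -/
theorem sum_add_mu_le {ok : Subobject E → Prop} {αE : ℤ} {α : Subobject E → ℤ} {dE : ℚ}
    {d : Subobject E → ℚ} {a : ℕ} {N : _root_.DecSh.NV E a} {δ : ℚ} (hδ : 0 < δ)
    (hss : _root_.DecSh.IsDeltaSS ok αE α dE d N δ) (𝓕 : _root_.DecSh.WFilt E)
    (hok : ∀ i, ok (𝓕.piece i)) (hle : ∀ i, α (𝓕.piece i) ≤ αE)
    (hpos : ∀ i, 1 ≤ α (𝓕.piece i)) (f : Fin 𝓕.t → ℚ) (good : Fin 𝓕.t → Prop) (M : ℚ)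
    (hM : δ * ((a : ℚ) * ((αE : ℚ) - 1)) < M)
    (hgood : ∀ i, good i → f i = (αE : ℚ) * d (𝓕.piece i) - (α (𝓕.piece i) : ℚ) * dE)
    (hbad : ∀ i, ¬ good i → f i ≤ -M) :
    (∑ i, 𝓕.wt i * f i) + δ * 𝓕.mu αE α N ≤ 0 ∧
      ((∑ i, 𝓕.wt i * f i) + δ * 𝓕.mu αE α N = 0 → ∀ i, good i) := by
  classical
  by_cases hall : ∀ i, good i
  · refine ⟨?_, fun _ => hall⟩
    rw [Finset.sum_congr rfl fun i _ => by rw [hgood i (hall i)]]
    exact hss 𝓕 hok
  obtain ⟨i₀, hi₀⟩ := not_forall.mp hall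
  suffices (∑ i, 𝓕.wt i * f i) + δ * 𝓕.mu αE α N < 0 from ⟨this.le, fun h => absurd h this.ne⟩
  set S := Finset.univ.filter good
  set S' := Finset.univ.filter fun i => ¬ good i
  have hS' : S'.Nonempty := ⟨i₀, Finset.mem_filter.2 ⟨Finset.mem_univ _, hi₀⟩⟩
  have hw' : 0 < ∑ i ∈ S', 𝓕.wt i := Finset.sum_pos (fun i _ => 𝓕.wt_pos i) hS'
  have hbad' : ∑ i ∈ S', 𝓕.wt i * f i ≤ (∑ i ∈ S', 𝓕.wt i) * -M := by
    rw [Finset.sum_mul]
    exact Finset.sum_le_sum fun i hi => mul_le_mul_of_nonneg_left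
      (hbad i (Finset.mem_filter.1 hi).2) (𝓕.wt_pos i).le
  have hsplit : ∀ g : Fin 𝓕.t → ℚ, ∑ i, g i = ∑ i ∈ S, g i + ∑ i ∈ S', g i := fun g =>
    (Finset.sum_filter_add_sum_filter_not _ _ _).symm
  have hMpos := mul_lt_mul_of_pos_left hM hw'
  by_cases hn : S.card = 0
  · have hSe : S = ∅ := Finset.card_eq_zero.1 hn
    have hmu := mul_le_mul_of_nonneg_left
      ((le_abs_self _).trans (MuBound.abs_mu_le 𝓕 N hle hpos)) hδ.le
    rw [hsplit 𝓕.wt, hSe, Finset.sum_empty, zero_add] at hmu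
    rw [hsplit (fun i => 𝓕.wt i * f i), hSe, Finset.sum_empty, zero_add]
    linarith
  let e := S.orderEmbOfFin rfl
  let 𝓕₁ : _root_.DecSh.WFilt E :=
    { t := S.card
      t_pos := Nat.pos_of_ne_zero hn
      piece := fun j => 𝓕.piece (e j)
      wt := fun j => 𝓕.wt (e j)
      piece_strictMono := 𝓕.piece_strictMono.comp e.strictMono
      piece_ne_top := fun j => 𝓕.piece_ne_top _
      piece_nonzero := fun j => 𝓕.piece_nonzero _
      wt_pos := fun j => 𝓕.wt_pos _ }
  have hsum : ∀ g : Fin 𝓕.t → ℚ, ∑ j, g (e j) = ∑ i ∈ S, g i := fun g => by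
    conv_rhs => rw [← Finset.map_orderEmbOfFin_univ S rfl, Finset.sum_map]
    rfl
  have h1 := hss 𝓕₁ fun j => hok _
  have h2 : 𝓕₁.msum αE α dE d = ∑ i ∈ S, 𝓕.wt i * f i := by
    rw [← hsum]
    refine Finset.sum_congr rfl fun j _ => ?_
    rw [hgood (e j) (Finset.mem_filter.1 (S.orderEmbOfFin_mem rfl j)).2]
  have h3 := mul_le_mul_of_nonneg_left
    (MuBound.mu_le_sub 𝓕 𝓕₁ N hle hpos e (fun _ => rfl) fun _ => rfl) hδ.le
  have h4 : (∑ i, 𝓕.wt i) - ∑ j, 𝓕₁.wt j = ∑ i ∈ S', 𝓕.wt i := by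
    rw [show ∑ j, 𝓕₁.wt j = ∑ i ∈ S, 𝓕.wt i from hsum 𝓕.wt, hsplit 𝓕.wt]
    ring
  rw [h4] at h3
  rw [h2] at h1
  rw [hsplit (fun i => 𝓕.wt i * f i)]
  linarith

end Abstract

section Bundle

include hdim hpure hL in
/-- The multiplicity of a bundle is `r` times that of the structure sheaf. -/
theorem mult_bundle {E : X.Modules} {r : ℕ} (hE : FlatMod.IsFinLocFreeOfRank r E) :
    DecSh.mult k X L E = r * DecSh.mult k X L (Coh.structureModule X) := by
  have := Curves.GlobalSections.isNoetherian_of_proper k X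
  have hLi := (Ample.Pow.isAmple_iff.1 hL).1
  have hO := Snapper.Twist.isCoh_structureModule X
  have hT : NT k L (Coh.structureModule X) := fun H i _ hH h0 =>
    isZero_of_mult_zero k hdim hpure hL (CurveBundle.Coherent.isTorsionFree
      (TensorMod.LocFree.of_rank (TensorMod.LocFree.of_isInvertible
        (PicLoc.isInvertible_structureModule X)))) i hH h0
  obtain ⟨N, hN, hφ⟩ := exists_twist_ses k hdim hpure hL
  obtain ⟨φ, hm, hQ⟩ := hφ _ hO hT
  have hA := TensorMod.Invertible.isInvertible_tensorPow hLi N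
  have hO' := CurveBundle.Twist.isCoh hA hO
  have hc := CohBasics.Closure.isCoh_cokernel φ hO.1 hO'
  have hS : (ShortComplex.mk φ (cokernel.π φ) (cokernel.condition φ)).ShortExact :=
    { exact := ShortComplex.exact_cokernel φ }
  have h := TFOne.EDeg.D_add (k := k) hE hS hO hO' hc
  dsimp only at h
  rw [TFOne.EDeg.D_eq_zero hdim hE hc hQ, add_zero, TFOne.EDeg.D, TFOne.EDeg.D,
    (Mult.euler_twist_pow k hdim hLi hO N).2,
    Curves.Euler.euler_eq_of_iso (k := k) (TensorMod.Basic.tensorIso (Iso.refl E)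
      (TensorMod.Basic.leftUnit (CohB1.tensorPow L N))),
    Curves.Euler.euler_eq_of_iso (k := k) (TensorMod.Basic.rightUnit E),
    (Mult.euler_twist_pow k hdim hLi (CurveBundle.Coherent.isCoh (TensorMod.LocFree.of_rank hE)) N).2] at h
  have hN' : (N : ℤ) ≠ 0 := by exact_mod_cast hN.ne'
  exact mul_left_cancel₀ hN' (by linarith)

end Bundle

end Groth.Agent.Lib.DecShLib.Bound
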