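import Groth.Agent.Lib.DecSh.GGTwist
import Groth.Agent.Lib.DecSh.Bound
import Groth.Agent.Lib.BddFam.Presented

/-!
# Boundedness of sheaves on a curve with bounded subsheaves

The coherent sheaves without torsion with `χ < s α` on all subsheaves, `α ≤ A` and `lo ≤ χ` form a
bounded family.
-/

set_option autoImplicit false
universe u

open CategoryTheory Limits AlgebraicGeometry Opposite

namespace Groth.Agent.Lib.DecShLib.Family

open Groth.Agent.Lib Sec

variable (k : Type u) [Field k] {X : Scheme.{u}} [X.Over (Spec (CommRingCat.of k))]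
  [IsProper (X ↘ Spec (CommRingCat.of k))]

include k in
/-- A globally generated sheaf with few sections is a quotient of a free one of that rank. -/
theorem exists_free_epi {F : X.Modules} (hF : Coh.IsCoh F) (h : Curv2.IsGloballyGenerated F)
    {N : ℕ} (hN : Curves.Euler.hdim k X F 0 ≤ N) : ∃ p : FlatMod.freeMod X N ⟶ F, Epi p := by
  have := Snapper.Finite.cohFinite k X F hF 0
  let bs := Module.finBasis k (Coh.HH X F 0)
  let g : Coh.HH X F 0 ≃+ Γ(F, ⊤) := Curves.GlobalSections.h0Equiv F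
  let p : FlatMod.freeMod X N ⟶ F := Modules.Free.freeHom fun i =>
    if hi : i.1 < Module.finrank k (Coh.HH X F 0) then g (bs ⟨i.1, hi⟩) else 0
  refine ⟨p, (Modules.StalkModule.epi_iff_stalkMapₗ_surjective p).mpr fun x => ?_⟩
  rw [← LinearMap.range_eq_top, eq_top_iff, ← H34.GlobGen.gl_eq_top_of_gg h x, H34.GlobGen.Gl,
    Submodule.span_le]
  rintro _ ⟨m, rfl⟩
  obtain ⟨z, rfl⟩ := g.surjective m
  rw [← bs.sum_repr z, map_sum]
  change F.presheaf.germ ⊤ x trivial (∑ i, g (bs.repr z i • bs i)) ∈ _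
  rw [map_sum]
  refine Submodule.sum_mem _ fun i _ => ?_
  have h1 : F.presheaf.germ ⊤ x trivial (g (bs.repr z i • bs i)) =
      X.presheaf.germ ⊤ x trivial
          (show Γ(X, ⊤) from Coh.toGlobal (X ↘ Spec (CommRingCat.of k)) (bs.repr z i)) •
        F.presheaf.germ ⊤ x trivial (g (bs i)) :=
    (congrArg (F.presheaf.germ ⊤ x trivial) (Curves.GlobalSections.h0Equiv_smul F _ (bs i))).trans
      (Modules.StalkModule.germ_smul (M := F) (U := ⊤) (x := x) trivial _ (g (bs i)))
  rw [h1]
  have hi : i.1 < N := i.2.trans_le hN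
  have hgi : Modules.StalkModule.stalkMapₗ p x ((FlatMod.freeMod X N).presheaf.germ ⊤ x trivial
      (Modules.Free.gen X ⟨i.1, hi⟩)) = F.presheaf.germ ⊤ x trivial (g (bs i)) := by
    rw [Modules.Free.freeHom_stalk_germ, dif_pos i.2]
  exact Submodule.smul_mem _ _ ⟨_, hgi⟩

variable [IsReduced X] (hdim : topologicalKrullDim X ≤ 1)
  (hpure : ∀ x : X, ¬ IsOpen ({x} : Set X)) {L : X.Modules} (hL : CohB1.IsAmple L)

include hdim hpure hL

/-- Every coherent sheaf satisfies a bound. -/
theorem ub_of_h0 {G : X.Modules} (hG : Coh.IsCoh G) :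
    UB k L G ((Curves.Euler.hdim k X G 0 : ℤ) + 1) := fun H i hi hH hp => by
  have := Curves.GlobalSections.isNoetherian_of_proper k X
  have := Snapper.Finite.cohFinite k X _ hG 0
  have h1 : (Curves.Euler.hdim k X H 0 : ℤ) ≤ Curves.Euler.hdim k X G 0 := by
    exact_mod_cast Curves.Euler.hdim_zero_le_of_mono (k := k) i
  rw [Curves.Euler.euler_eq (k := k) (Curves.Positivity.subsingleton_HH_of_two_le hdim _)]
  have h2 : ((Curves.Euler.hdim k X G 0 : ℤ) + 1) * 1 ≤
      ((Curves.Euler.hdim k X G 0 : ℤ) + 1) * DecSh.mult k X L H :=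
    mul_le_mul_of_nonneg_left hp (by omega)
  linarith [Int.natCast_nonneg (Curves.Euler.hdim k X H 1)]

/-- A globally generated twist, with boundedly many sections. -/
theorem exists_gg_twist [IsAlgClosed k] (s lo A : ℤ) : ∃ m M N : ℕ, ∀ G : X.Modules, Coh.IsCoh G →
    NT k L G → UB k L G s → DecSh.mult k X L G ≤ A → lo ≤ Curv2.euler k X G →
      Coh.IsCoh (ShStab.twist X L (ShStab.twist X L G m) M) ∧
      Curv2.IsGloballyGenerated (ShStab.twist X L (ShStab.twist X L G m) M) ∧
      Curves.Euler.hdim k X (ShStab.twist X L (ShStab.twist X L G m) M) 0 ≤ N := by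
  have := Curves.GlobalSections.isNoetherian_of_proper k X
  have hLi := (Ample.Pow.isAmple_iff.1 hL).1
  obtain ⟨C, hC⟩ := exists_h0_bound k hdim hpure hL
  obtain ⟨M, hM⟩ := GGTwist.exists_gg_of_h1 k hdim hpure hL
  obtain ⟨B, N₁, hB, hd⟩ := Bound.exists_dich k hdim hpure hL s A
  set m := N₁ + (B - lo + 1).toNat with hm
  refine ⟨m, M, (max 0 (s + m + M + C) * |A|).toNat, fun G hG hT hU hα hlo => ?_⟩
  have hP := fun n => TensorMod.Invertible.isInvertible_tensorPow hLi n
  have ht := fun (n : ℕ) (H : X.Modules) (hH : Coh.IsCoh H) =>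
    (Mult.euler_twist_pow k hdim hLi hH n).1
  have hGm : Coh.IsCoh (ShStab.twist X L G m) := CurveBundle.Twist.isCoh (hP m) hG
  have hTm : NT k L (ShStab.twist X L G m) := nt_twist k hdim hL (hP m) (ht m) hT
  have hF : Coh.IsCoh (ShStab.twist X L (ShStab.twist X L G m) M) :=
    CurveBundle.Twist.isCoh (hP M) hGm
  have h1 : Subsingleton (Coh.HH X (ShStab.twist X L G m) 1) := by
    refine (hd m (by omega) G hG hT hU hα).resolve_right fun hle => ?_
    have := (Bound.euler_twist k hdim hL hG m).2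
    have h2 : B - lo < (m : ℤ) := by omega
    linarith
  refine ⟨hF, hM _ hGm hTm h1, ?_⟩
  have h2 := hC (s + m + M) _ hF (nt_twist k hdim hL (hP M) (ht M) hTm)
    (ub_twist_pow k hdim hL hGm M (ub_twist_pow k hdim hL hG m hU))
  have e1 : DecSh.mult k X L (ShStab.twist X L (ShStab.twist X L G m) M) = DecSh.mult k X L G :=
    (ht M _ hGm).trans (ht m _ hG)
  rw [e1] at h2
  have h3 := h2.trans (mul_le_mul_of_nonneg_left (hα.trans (le_abs_self A)) (le_max_left _ _))
  omega

/-- The family is bounded. -/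
theorem isBounded_family [IsAlgClosed k] (s lo A : ℤ) :
    Pic13.IsBounded k X (fun G => Coh.IsCoh G ∧ NT k L G ∧ UB k L G s ∧ DecSh.mult k X L G ≤ A ∧
      lo ≤ Curv2.euler k X G) := by
  have := Curves.GlobalSections.isNoetherian_of_proper k X
  have hLi := (Ample.Pow.isAmple_iff.1 hL).1
  have hP := fun n => TensorMod.Invertible.isInvertible_tensorPow hLi n
  obtain ⟨m, M, N, h₁⟩ := exists_gg_twist k hdim hpure hL s lo A
  let E := FlatMod.freeMod X N
  have hE : Coh.IsCoh E := Perfect.Coherent.isCoh_freeMod X N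
  have hET : NT k L E := fun H i _ hH h0 => isZero_of_mult_zero k hdim hpure hL
    (CurveBundle.Coherent.isTorsionFree
      (TensorMod.LocFree.of_rank (TensorMod.LocFree.isFinLocFree_freeMod X N))) i hH h0
  obtain ⟨m', M', N', h₂⟩ := exists_gg_twist k hdim hpure hL ((Curves.Euler.hdim k X E 0 : ℤ) + 1)
    (Curv2.euler k X E - N) (DecSh.mult k X L E)
  let T' : X.Modules ⥤ X.Modules := TensorMod.Basic.tensorBy (CohB1.tensorPow L m') ⋙
    TensorMod.Basic.tensorBy (CohB1.tensorPow L M')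
  let Ci := CohB1.tensorMod (CohB1.tensorPow L m) (CohB1.tensorMod (CohB1.tensorPow L M)
    (CohB1.tensorMod (CohB1.tensorPow L m') (CohB1.tensorPow L M')))
  have hCi : PicF.IsInvertible Ci := TensorMod.Invertible.isInvertible_tensorMod (hP m)
    (TensorMod.Invertible.isInvertible_tensorMod (hP M)
      (TensorMod.Invertible.isInvertible_tensorMod (hP m') (hP M')))
  refine BddFam.Presented.mono k (fun G ⟨hG, hT, hU, hα, hlo⟩ => ?_)
    (BddFam.Presented.isBounded_presented k N' (B := T'.obj E)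
      (CurveBundle.Twist.isCoh (hP M') (CurveBundle.Twist.isCoh (hP m') hE))
      (C := TensorMod.Dual.dual Ci) (TensorMod.Invertible.isInvertible_dual hCi))
  obtain ⟨hF, hgg, hN⟩ := h₁ G hG hT hU hα hlo
  set F := ShStab.twist X L (ShStab.twist X L G m) M
  obtain ⟨p, hp⟩ := exists_free_epi k hF hgg hN
  have hK := CohBasics.Closure.isCoh_kernel p hE hF.1
  have hS : (ShortComplex.mk (kernel.ι p) p (kernel.condition p)).ShortExact :=
    { exact := ShortComplex.exact_kernel p }
  have hx := ParBun.Proper.euler_add (k := k) hS hK hE hF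
  dsimp only at hx
  have hFe : Curv2.euler k X F ≤ (N : ℤ) := by
    rw [Curves.Euler.euler_eq (k := k) (Curves.Positivity.subsingleton_HH_of_two_le hdim _)]
    have : (Curves.Euler.hdim k X F 0 : ℤ) ≤ N := by exact_mod_cast hN
    linarith [Int.natCast_nonneg (Curves.Euler.hdim k X F 1)]
  obtain ⟨hK', hgg', hN'⟩ := h₂ (kernel p) hK (nt_of_mono k (kernel.ι p) hET)
    (ub_of_mono k (kernel.ι p) (ub_of_h0 k hdim hpure hL hE))
    (Mult.mult_le_of_mono k hdim hL (kernel.ι p) hK hE) (by linarith)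
  obtain ⟨q, hq⟩ := exists_free_epi k hK' hgg' hN'
  let f : ShStab.twist X L (ShStab.twist X L (kernel p) m') M' ⟶ T'.obj E := T'.map (kernel.ι p)
  refine ⟨q ≫ f, ⟨?_⟩⟩
  haveI h1 := CurveBundle.Twist.isEquivalence (hP m')
  haveI h2 := CurveBundle.Twist.isEquivalence (hP M')
  haveI : T'.IsEquivalence := inferInstanceAs ((TensorMod.Basic.tensorBy (CohB1.tensorPow L m') ⋙
    TensorMod.Basic.tensorBy (CohB1.tensorPow L M')).IsEquivalence)
  let e1 : cokernel (kernel.ι p) ≅ F := (cokernelIsCokernel (kernel.ι p)).coconePointUniqueUpToIso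
    (Abelian.epiIsCokernelOfKernel (KernelFork.ofι (kernel.ι p) (kernel.condition p))
      (kernelIsKernel p))
  let e2 : cokernel (q ≫ f) ≅ T'.obj F :=
    cokernelEpiComp q f ≪≫ (PreservesCokernel.iso T' (kernel.ι p)).symm ≪≫ T'.mapIso e1
  let P := fun n => CohB1.tensorPow L n
  let e3 : T'.obj F ≅ CohB1.tensorMod G Ci :=
    (TensorMod.Basic.assoc (CohB1.tensorMod (CohB1.tensorMod G (P m)) (P M)) (P m') (P M') ≪≫
      TensorMod.Basic.assoc (CohB1.tensorMod G (P m)) (P M) _ ≪≫
      TensorMod.Basic.assoc G (P m) _)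
  exact TensorMod.Basic.tensorIso (e2 ≪≫ e3) (Iso.refl _) ≪≫
    TensorMod.Basic.assoc G Ci (TensorMod.Dual.dual Ci) ≪≫
    TensorMod.Basic.tensorIso (Iso.refl G) (TensorMod.Invertible.tensorDualIso hCi) ≪≫
    TensorMod.Basic.rightUnit G

end Groth.Agent.Lib.DecShLib.Family
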