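import Groth.Agent.Lib.DecSh.Bound
import Groth.Agent.Lib.Curves.PointIdeal
import Groth.Agent.H34.DefAmple

/-!
# Global generation of bundles on a curve through the kernels at closed points
-/

set_option autoImplicit false
universe u

open CategoryTheory Limits AlgebraicGeometry Opposite TopologicalSpace

namespace Groth.Agent.Lib.DecShLib.GG

open Groth.Agent.Lib Groth.Agent.Lib.Modules H34.GlobGen

variable {X : Scheme.{u}}

/-- If the global sections generate at `x` then they generate at the generalisations of `x`. -/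
theorem gl_of_specializes {M : X.Modules} (hM : FlatMod.IsFinLocFree M) {x y : X} (h : y ⤳ x)
    (hx : Gl M x = ⊤) : Gl M y = ⊤ := by
  obtain ⟨V, n, t, hxV, ht⟩ := exists_local_span hM x
  have hyV : y ∈ V := h.mem_open V.2 hxV
  refine eq_top_iff.2 ((ht y hyV).ge.trans (Submodule.span_le.2 ?_))
  rintro _ ⟨j, rfl⟩
  have hs : ∀ v ∈ Gl M x, M.presheaf.stalkSpecializes h v ∈ Gl M y := by
    intro v hv
    induction hv using Submodule.span_induction with
    | mem v hv =>
      obtain ⟨m, rfl⟩ := hv
      refine Submodule.subset_span ⟨m, ?_⟩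
      exact (TopCat.Presheaf.germ_stalkSpecializes_apply M.presheaf (U := ⊤) trivial h m).symm
    | zero => rw [map_zero]; exact Submodule.zero_mem _
    | add v w _ _ hv hw => rw [map_add]; exact Submodule.add_mem _ hv hw
    | smul c v _ hv =>
      obtain ⟨U, hxU, r, m, rfl, rfl⟩ := StalkModule.exists_germ_eq₂ c v
      rw [← StalkModule.germ_smul hxU r m, TopCat.Presheaf.germ_stalkSpecializes_apply,
        StalkModule.germ_smul (h.mem_open U.2 hxU) r m]
      rw [TopCat.Presheaf.germ_stalkSpecializes_apply] at hv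
      exact Submodule.smul_mem _ _ hv
  have h1 := hs _ (hx ▸ Submodule.mem_top : M.presheaf.germ V x hxV (t j) ∈ Gl M x)
  rw [TopCat.Presheaf.germ_stalkSpecializes_apply] at h1
  exact h1

variable (k : Type u) [Field k] [X.Over (Spec (CommRingCat.of k))]
  [IsProper (X ↘ Spec (CommRingCat.of k))]

include k in
/-- Closed points of a space without isolated points are not generic. -/
theorem not_generic (hpure : ∀ x : X, ¬ IsOpen ({x} : Set X)) {x : X}
    (hx : IsClosed ({x} : Set X)) : x ∉ genericPoints X := by
  intro hη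
  have := Curves.GlobalSections.isNoetherian_of_proper k X
  have hC : closure ({x} : Set X) = {x} := hx.closure_eq
  refine hpure x ?_
  have hfinC := NoetherianSpace.finite_irreducibleComponents (α := X)
  have hrest : IsClosed (⋃₀ (irreducibleComponents (X : Type u) \ {closure ({x} : Set X)})) := by
    rw [Set.sUnion_eq_biUnion]
    exact (hfinC.subset Set.sdiff_subset).isClosed_biUnion fun C hC =>
      isClosed_of_mem_irreducibleComponents C hC.1
  suffices ({x} : Set X) = (⋃₀ (irreducibleComponents (X : Type u) \ {closure ({x} : Set X)}))ᶜ by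
    rw [this]; exact hrest.isOpen_compl
  refine subset_antisymm (fun z hz => ?_) fun z hz => ?_
  · rintro ⟨C, ⟨hC1, hC2⟩, hzC⟩
    rw [Set.mem_singleton_iff] at hz
    subst hz
    exact hC2 (Set.mem_singleton_iff.mpr (subset_antisymm (hη.2 hC1.1
      (closure_minimal (Set.singleton_subset_iff.mpr hzC)
        (isClosed_of_mem_irreducibleComponents C hC1)))
      (closure_minimal (Set.singleton_subset_iff.mpr hzC)
        (isClosed_of_mem_irreducibleComponents C hC1))))
  · by_contra hne
    refine hz ⟨irreducibleComponent z, ⟨irreducibleComponent_mem_irreducibleComponents z, ?_⟩,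
      mem_irreducibleComponent⟩
    intro h
    rw [Set.mem_singleton_iff, hC] at h
    exact hne (h ▸ mem_irreducibleComponent)

/-- The restriction of `F` to a closed point. -/
noncomputable abbrev res {x : X} (hx : IsClosed ({x} : Set X)) (F : X.Modules) :=
  (Scheme.Modules.pullbackPushforwardAdjunction
    (Curves.PointIdeal.ptI hx).subschemeι).unit.app F

include k in
/-- Global generation from the vanishing of `H¹` of the kernels at closed points. -/
theorem gg_of_kernels {F : X.Modules} (hF : FlatMod.IsFinLocFree F)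
    (h : ∀ (x : X) (hx : IsClosed ({x} : Set X)),
      Subsingleton (Coh.HH X (kernel (res hx F)) 1)) : Curv2.IsGloballyGenerated F := by
  have := Curves.GlobalSections.isNoetherian_of_proper k X
  refine gg_of_gl_eq_top fun y => ?_
  obtain ⟨x, hxy, hx⟩ := (isClosed_closure (s := ({y} : Set X))).exists_closed_singleton
    ⟨y, subset_closure rfl⟩
  refine gl_of_specializes hF (specializes_iff_mem_closure.mpr hxy) ?_
  set ι := (Curves.PointIdeal.ptI hx).subschemeι with hι
  have hr : Set.range ι = {x} := by
    rw [hι, Scheme.IdealSheafData.range_subschemeι, Curves.PointIdeal.support_ptI]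
  let u : F ⟶ (Scheme.Modules.pushforward ι).obj ((Scheme.Modules.pullback ι).obj F) := res hx F
  have : Epi u := PushClosed.Unit.epi_unit ι F
  let S : ShortComplex X.Modules := ShortComplex.mk (kernel.ι u) u (kernel.condition u)
  have hS : S.ShortExact := { exact := ShortComplex.exact_kernel u }
  have hsurj := H34.HOne.app_top_surjective hS (h x hx)
  have hQ : Curv2.IsGloballyGenerated S.X₃ := H34.DefAmple.gg_of_torsion fun z hz =>
    PushClosed.Unit.subsingleton_stalk_push ι _ fun hzr => hz (by
      rw [hr, Set.mem_singleton_iff] at hzr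
      exact hzr.symm ▸ hx)
  obtain ⟨V, n, t, hxV, ht⟩ := exists_local_span hF x
  have hfin : Module.Finite (X.presheaf.stalk x) (F.presheaf.stalk x) :=
    ⟨ht x hxV ▸ Submodule.fg_span (Set.finite_range _)⟩
  refine eq_top_iff.2 (Submodule.le_of_le_smul_of_le_jacobson_bot (I := IsLocalRing.maximalIdeal _)
    hfin.fg_top (IsLocalRing.jacobson_eq_maximalIdeal ⊥ bot_ne_top).ge fun v _ => ?_)
  have hle : Gl S.X₃ x ≤ (Gl F x).map (StalkModule.stalkMapₗ u x) := by
    rw [Gl, Submodule.span_le]
    rintro _ ⟨m, rfl⟩
    obtain ⟨m', rfl⟩ := hsurj m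
    exact ⟨_, Submodule.subset_span ⟨m', rfl⟩, StalkModule.stalkMapₗ_germ u _ m'⟩
  obtain ⟨w, hw, hwv⟩ := hle (gl_eq_top_of_gg hQ x ▸ Submodule.mem_top :
    StalkModule.stalkMapₗ u x v ∈ Gl S.X₃ x)
  have key : ∀ p ∈ Set.range ι, ∀ a, StalkModule.stalkMapₗ u p a = 0 →
      a ∈ IsLocalRing.maximalIdeal (X.presheaf.stalk p) •
        (⊤ : Submodule (X.presheaf.stalk p) (F.presheaf.stalk p)) := by
    rintro p ⟨z, rfl⟩ a h0
    exact Submodule.smul_mono_left (IsLocalRing.le_maximalIdeal (RingHom.ker_ne_top _))
      (Cyc.Dev.SchemeCase.stalk_kernel_unit_le ι F z a h0)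
  have hvw := key x (hr ▸ rfl) (v - w) (by rw [map_sub, hwv, sub_self])
  have := Submodule.add_mem_sup hw hvw
  rwa [add_sub_cancel] at this

/-- The kernel at a closed point: a corank `r` subsheaf. -/
theorem kernel_data [IsAlgClosed k] (hdim : topologicalKrullDim X ≤ 1)
    (hpure : ∀ x : X, ¬ IsOpen ({x} : Set X)) {L : X.Modules} (hL : CohB1.IsAmple L) {F : X.Modules}
    {r : ℕ} (hF : FlatMod.IsFinLocFreeOfRank r F) {x : X} (hx : IsClosed ({x} : Set X)) :
    Coh.IsCoh (kernel (res hx F)) ∧
      DecSh.mult k X L (kernel (res hx F)) = DecSh.mult k X L F ∧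
      Curv2.euler k X (kernel (res hx F)) = Curv2.euler k X F - r := by
  have := Curves.GlobalSections.isNoetherian_of_proper k X
  have hF' := TensorMod.LocFree.of_rank hF
  have hFc := CurveBundle.Coherent.isCoh hF'
  let ι := (Curves.PointIdeal.ptI hx).subschemeι
  let u : F ⟶ (Scheme.Modules.pushforward ι).obj ((Scheme.Modules.pullback ι).obj F) := res hx F
  have : Epi u := PushClosed.Unit.epi_unit ι F
  have := hFc.1
  have : IsLocallyNoetherian (Curves.PointIdeal.ptI hx).subscheme :=
    LocallyOfFiniteType.isLocallyNoetherian ι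
  let Q := (Scheme.Modules.pushforward ι).obj ((Scheme.Modules.pullback ι).obj F)
  have hQc : Coh.IsCoh Q :=
    Cyc.Dev.SchemeEquiv.isCoh_push ι (Cyc.FP.Stalk.isCoh_pullback ι hFc)
  have hr : Set.range ι = {x} := by
    rw [Scheme.IdealSheafData.range_subschemeι, Curves.PointIdeal.support_ptI]
  have ht : ∀ {M : (Curves.PointIdeal.ptI hx).subscheme.Modules}, ∀ η ∈ genericPoints X,
      Subsingleton (((Scheme.Modules.pushforward ι).obj M).presheaf.stalk η) := fun η hη =>
    PushClosed.Unit.subsingleton_stalk_push ι _ fun hzr => by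
      rw [hr, Set.mem_singleton_iff] at hzr
      exact not_generic k hpure hx (hzr ▸ hη)
  have hdb := Modules.DualBasis.hasDBases_of_isFinLocFree hF'
  let e : CohB1.tensorMod F (ClSub.quotMod (Curves.PointIdeal.ptI hx)) ≅ Q :=
    (Modules.ProjFormula.projIso ι hdb).app
        (Coh.structureModule (Curves.PointIdeal.ptI hx).subscheme) ≪≫
      (Coh.push ι).mapIso (TensorMod.Basic.rightUnit _)
  have hq := Curves.IdealTwist.isCoh_quot (Curves.PointIdeal.ptI hx)
  have he : Curv2.euler k X Q = r := by
    rw [← Curves.Euler.euler_eq_of_iso (k := k) e,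
      TFOne.EDeg.euler_tensor_torsion hdim hF hq ht,
      Curves.Euler.euler_eq (k := k) (Curves.Positivity.subsingleton_HH_of_two_le hdim _),
      Curves.PointIdeal.hdim_quot_point_algClosed hx hdim]
    have h1 : Subsingleton (Coh.HH X (ClSub.quotMod (Curves.PointIdeal.ptI hx)) 1) :=
      Curves.Positivity.IsTorsion.subsingleton_HH_succ hdim ht 0
    rw [show Curves.Euler.hdim k X (ClSub.quotMod (Curves.PointIdeal.ptI hx)) 1 = 0 from
      Module.finrank_zero_of_subsingleton]
    simp
  have hLi := (Ample.Pow.isAmple_iff.1 hL).1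
  have hm : DecSh.mult k X L Q = 0 := by
    rw [DecSh.mult, Curves.Euler.euler_eq_of_iso (k := k) (TensorMod.Basic.comm Q L),
      TFOne.EDeg.euler_tensor_torsion (k := k) hdim (TensorMod.LocFree.of_isInvertible hLi) hQc ht]
    simp
  have hS : (ShortComplex.mk (kernel.ι u) u (kernel.condition u)).ShortExact :=
    { exact := ShortComplex.exact_kernel u }
  have hK := CohBasics.Closure.isCoh_kernel u hFc hQc.1
  have h1 := Mult.mult_add k hLi hS hK hFc hQc
  have h2 := ParBun.Proper.euler_add (k := k) hS hK hFc hQc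
  dsimp only at h1 h2
  rw [hm, add_zero] at h1
  rw [he] at h2
  exact ⟨hK, h1.symm, eq_sub_of_add_eq h2.symm⟩

end Groth.Agent.Lib.DecShLib.GG
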