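import Groth.Agent.Lib.DecSh.Bound

/-!
# Sectional semistability of tensor fields at a large twist
-/

set_option autoImplicit false
universe u

open CategoryTheory Limits AlgebraicGeometry

namespace Groth.Agent.Lib.DecShLib.Sectional

open Groth.Agent.Lib Sec

variable (k : Type u) [Field k] {X : Scheme.{u}} [X.Over (Spec (CommRingCat.of k))]
  [IsProper (X ↘ Spec (CommRingCat.of k))] [IsReduced X] (hdim : topologicalKrullDim X ≤ 1)
  (hpure : ∀ x : X, ¬ IsOpen ({x} : Set X)) {L : X.Modules} (hL : CohB1.IsAmple L)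
  {a b : ℕ}

include hdim hpure hL

/-- A torsion-free sheaf has no subsheaf of multiplicity zero. -/
theorem nt_of_tf {E : X.Modules} (hT : TorSh.IsTorsionFree E) : NT k L E :=
  fun _ i _ hH h0 => isZero_of_mult_zero k hdim hpure hL hT i hH h0

/-- Semistability bounds the subsheaves uniformly. -/
theorem ub_of_ss {E D : X.Modules} (hE : Coh.IsCoh E) (T : DecSh.TF E a b D) {δ : ℚ} (hδ : 0 < δ)
    (hT : T.IsSemistable k L δ) :
    UB k L E (|Curv2.euler k X E| + ⌈δ * (a : ℚ)⌉ + 1) := by
  intro H i hi hH hp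
  have hc : (0 : ℤ) ≤ ⌈δ * (a : ℚ)⌉ := Int.ceil_nonneg (by positivity)
  have he := le_abs_self (Curv2.euler k X E)
  have hle := Mult.mult_le_of_mono k hdim hL i hH hE
  have h0 : ¬ IsZero H := fun hz => by
    have := Curves.Euler.euler_eq_of_iso (k := k) (hz.iso (Functor.map_isZero (TensorMod.Basic.tensorBy L) hz))
    change Curv2.euler k X H = Curv2.euler k X (CohB1.tensorMod H L) at this
    rw [DecSh.mult, ← this, sub_self] at hp
    exact lt_irrefl _ hp
  by_cases hi' : IsIso i
  · rw [Curves.Euler.euler_eq_of_iso (k := k) (asIso i)]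
    have h1 := mul_le_mul_of_nonneg_left (show (1 : ℤ) ≤ DecSh.mult k X L H by omega)
      (show 0 ≤ |Curv2.euler k X E| + ⌈δ * (a : ℚ)⌉ + 1 by positivity)
    linarith
  have h := Apps.euler_sub_le hdim hL hE T hδ hT i hH h0 hi'
  have hp' : (1 : ℚ) ≤ DecSh.mult k X L H := by exact_mod_cast hp
  have hA : (1 : ℚ) ≤ DecSh.mult k X L E := by exact_mod_cast (show (1 : ℤ) ≤ DecSh.mult k X L E by omega)
  have h1 : δ * (a : ℚ) ≤ (⌈δ * (a : ℚ)⌉ : ℚ) := Int.le_ceil _
  have h2 : (0 : ℚ) ≤ δ * (a : ℚ) := by positivity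
  have hq : (Curv2.euler k X H : ℚ) <
      (((|Curv2.euler k X E| + ⌈δ * (a : ℚ)⌉ + 1) * DecSh.mult k X L H : ℤ) : ℚ) := by
    push_cast
    set A : ℚ := (DecSh.mult k X L E : ℚ)
    set Q : ℚ := (DecSh.mult k X L H : ℚ)
    set e : ℚ := (Curv2.euler k X E : ℚ)
    refine lt_of_mul_lt_mul_left (a := A) ?_ (by linarith)
    have h3 : Q * e ≤ Q * |e| := mul_le_mul_of_nonneg_left (le_abs_self _) (by linarith)
    have h4 : Q * |e| ≤ A * (|e| * Q) := by
      have : 0 ≤ |e| * Q := mul_nonneg (abs_nonneg _) (by linarith)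
      linarith [mul_le_mul_of_nonneg_right hA this]
    have h5 : δ * (a : ℚ) * A ≤ A * ((⌈δ * (a : ℚ)⌉ : ℚ) * Q) := by
      rw [mul_comm]
      exact mul_le_mul_of_nonneg_left (h1.trans (le_mul_of_one_le_right (h2.trans h1) hp'))
        (by linarith)
    have h6 : 0 < A * Q := by positivity
    nlinarith [mul_nonneg h2 (show (0 : ℚ) ≤ Q by linarith)]
  exact_mod_cast hq

/-- `h⁰ ≥ χ` makes `H¹` vanish once the twist beats the bound. -/
theorem h1_of_dich {E : X.Modules} (hE : Coh.IsCoh E) (m : ℕ) {B : ℤ}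
    (h : Subsingleton (Coh.HH X (ShStab.twist X L E m) 1) ∨
      (Module.finrank k (Coh.HH X (ShStab.twist X L E m) 0) : ℤ) ≤
        (DecSh.mult k X L E - 1) * m + B)
    (hm : B - Curv2.euler k X E < m) : Subsingleton (Coh.HH X (ShStab.twist X L E m) 1) := by
  refine h.resolve_right fun hle => ?_
  have := (Bound.euler_twist k hdim hL hE m).2
  linarith

include k in
/-- A quotient of `E` with `H¹(E(m)) = 0` has none either. -/
theorem h1_quot {E Q : X.Modules} (p : E ⟶ Q) [Epi p] (m : ℕ)
    (h : Subsingleton (Coh.HH X (ShStab.twist X L E m) 1)) :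
    Subsingleton (Coh.HH X (ShStab.twist X L Q m) 1) := by
  have := Curves.GlobalSections.isNoetherian_of_proper k X
  let q : ShStab.twist X L E m ⟶ ShStab.twist X L Q m :=
    (TensorMod.Basic.tensorBy (CohB1.tensorPow L m)).map p
  have : Epi q := H34.HOne.epi_tensor (CohB1.tensorPow L m) p
  exact H34.HOne.h1_of_epi hdim q h

/-- The data of the quotient by a piece. -/
theorem quot_data {E : X.Modules} (hE : Coh.IsCoh E) (P : Subobject E)
    (hP : Coh.IsCoh (P : X.Modules)) :
    Coh.IsCoh (cokernel P.arrow) ∧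
      DecSh.mult k X L (cokernel P.arrow) =
        DecSh.mult k X L E - DecSh.mult k X L (P : X.Modules) ∧
      Curv2.euler k X (cokernel P.arrow) = Curv2.euler k X E - Curv2.euler k X (P : X.Modules) := by
  have hc := CohBasics.Closure.isCoh_cokernel P.arrow hP.1 hE
  have hS : (ShortComplex.mk P.arrow (cokernel.π P.arrow) (cokernel.condition P.arrow)).ShortExact :=
    { exact := ShortComplex.exact_cokernel P.arrow }
  have h1 := Mult.mult_add k (Ample.Pow.isAmple_iff.1 hL).1 hS hP hE hc
  have h2 := ParBun.Proper.euler_add (k := k) hS hP hE hc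
  dsimp only at h1 h2
  exact ⟨hc, by omega, by omega⟩

/-- Sectional characterisations of semistability at a large twist. -/
theorem exists_main (δ : ℚ) (hδ : 0 < δ) (α e : ℤ) (a b : ℕ) : ∃ N₀ : ℕ, ∀ m : ℕ, N₀ ≤ m →
    ∀ E : X.Modules, Coh.IsCoh E → TorSh.IsTorsionFree E → DecSh.mult k X L E = α →
      Curv2.euler k X E = e → ∀ (D : X.Modules) (T : DecSh.TF E a b D),
      (T.IsSemistable k L δ ↔
          ∀ 𝓕 : DecSh.WFilt E, (∀ i, Coh.IsCoh ((𝓕.piece i : Subobject E) : X.Modules)) →
            (∑ i, 𝓕.wt i * ((α : ℚ) *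
                (Module.finrank k (Coh.HH X (ShStab.twist X L ((𝓕.piece i : Subobject E) : X.Modules) m) 0) : ℚ) -
              (DecSh.mult k X L ((𝓕.piece i : Subobject E) : X.Modules) : ℚ) *
                (Curv2.euler k X (ShStab.twist X L E m) : ℚ))) + δ * T.mu k L 𝓕 ≤ 0) ∧
        (T.IsSemistable k L δ ↔
          ∀ 𝓕 : DecSh.WFilt E, (∀ i, Coh.IsCoh ((𝓕.piece i : Subobject E) : X.Modules)) →
            (∑ i, 𝓕.wt i * ((DecSh.mult k X L (cokernel (𝓕.piece i).arrow) : ℚ) *
                (Curv2.euler k X (ShStab.twist X L E m) : ℚ) -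
              (α : ℚ) * (Module.finrank k (Coh.HH X (ShStab.twist X L (cokernel (𝓕.piece i).arrow) m) 0) : ℚ))) +
              δ * T.mu k L 𝓕 ≤ 0) ∧
        (T.IsSemistable k L δ → Subsingleton (Coh.HH X (ShStab.twist X L E m) 1)) ∧
        (T.IsSemistable k L δ →
          ∀ 𝓕 : DecSh.WFilt E, (∀ i, Coh.IsCoh ((𝓕.piece i : Subobject E) : X.Modules)) →
            (∑ i, 𝓕.wt i * ((α : ℚ) *
                (Module.finrank k (Coh.HH X (ShStab.twist X L ((𝓕.piece i : Subobject E) : X.Modules) m) 0) : ℚ) -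
              (DecSh.mult k X L ((𝓕.piece i : Subobject E) : X.Modules) : ℚ) *
                (Curv2.euler k X (ShStab.twist X L E m) : ℚ))) + δ * T.mu k L 𝓕 = 0 →
            ∀ i, (Module.finrank k (Coh.HH X (ShStab.twist X L ((𝓕.piece i : Subobject E) : X.Modules) m) 0) : ℤ) =
              Curv2.euler k X (ShStab.twist X L ((𝓕.piece i : Subobject E) : X.Modules) m)) := by
  have := Curves.GlobalSections.isNoetherian_of_proper k X
  have hLi := (Ample.Pow.isAmple_iff.1 hL).1
  obtain ⟨C, hC⟩ := exists_h0_bound k hdim hpure hL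
  set ca := ⌈δ * (a : ℚ)⌉ with hca
  have hca0 : 0 ≤ ca := Int.ceil_nonneg (by positivity)
  have hcaq : δ * (a : ℚ) ≤ (ca : ℚ) := Int.le_ceil _
  set S : ℤ := C + |e| + ca + 3 with hS
  obtain ⟨B, N₁, hB, hd⟩ := Bound.exists_dich k hdim hpure hL (|e| + ca + 1) α
  obtain ⟨B', N₂, hB', hd'⟩ := Bound.exists_dich k hdim hpure hL (|e| + S * |α| + 1) α
  refine ⟨N₁ + N₂ + (B + B' + |e| + ca + S + 2).toNat, fun m hm E hE htf hα he D T => ?_⟩
  have hm₁ : N₁ ≤ m := by omega
  have hm₂ : N₂ ≤ m := by omega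
  have hmb : B + B' + |e| + ca + S + 2 ≤ (m : ℤ) := by omega
  have hmq : (B : ℚ) + (B' : ℚ) + |(e : ℚ)| + (ca : ℚ) + (S : ℚ) + 2 ≤ (m : ℚ) := by exact_mod_cast hmb
  have heE := abs_nonneg (e : ℚ)
  have hmu : ∀ 𝓕 : DecSh.WFilt E, T.mu k L 𝓕 =
      𝓕.mu (DecSh.mult k X L E) (fun P => DecSh.mult k X L (P : X.Modules)) T.nv := fun _ => rfl
  have hEe : (Curv2.euler k X (ShStab.twist X L E m) : ℚ) = (e : ℚ) + (m : ℚ) * (α : ℚ) := by
    rw [(Bound.euler_twist k hdim hL hE m).1, hα, he]
    push_cast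
    ring
  have hnt := nt_of_tf k hdim hpure hL htf
  -- semistable sheaves have no `H¹`
  have hH1 : T.IsSemistable k L δ → Subsingleton (Coh.HH X (ShStab.twist X L E m) 1) := fun hss => by
    refine h1_of_dich k hdim hpure hL hE m (hd m hm₁ E hE hnt ?_ hα.le) ?_
    · exact he ▸ ub_of_ss k hdim hpure hL hE T hδ hss
    · rw [he]
      have := neg_abs_le e
      have := abs_nonneg e
      omega
  -- the first sectional inequality
  have hmain : T.IsSemistable k L δ → ∀ 𝓕 : DecSh.WFilt E,
      (∀ i, Coh.IsCoh ((𝓕.piece i : Subobject E) : X.Modules)) →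
        ((∑ i, 𝓕.wt i * ((α : ℚ) *
            (Module.finrank k (Coh.HH X (ShStab.twist X L ((𝓕.piece i : Subobject E) : X.Modules) m) 0) : ℚ) -
          (DecSh.mult k X L ((𝓕.piece i : Subobject E) : X.Modules) : ℚ) *
            (Curv2.euler k X (ShStab.twist X L E m) : ℚ))) + δ * T.mu k L 𝓕 ≤ 0) ∧
        ((∑ i, 𝓕.wt i * ((α : ℚ) *
            (Module.finrank k (Coh.HH X (ShStab.twist X L ((𝓕.piece i : Subobject E) : X.Modules) m) 0) : ℚ) -
          (DecSh.mult k X L ((𝓕.piece i : Subobject E) : X.Modules) : ℚ) *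
            (Curv2.euler k X (ShStab.twist X L E m) : ℚ))) + δ * T.mu k L 𝓕 = 0 →
          ∀ i, Subsingleton (Coh.HH X (ShStab.twist X L ((𝓕.piece i : Subobject E) : X.Modules) m) 1)) := by
    intro hss 𝓕 hcoh
    obtain ⟨hle, hpos⟩ := Apps.piece_bounds (k := k) hdim hpure hL hE htf 𝓕 hcoh
    have hα1 : (1 : ℚ) ≤ α := by
      exact_mod_cast hα ▸ (hpos ⟨0, 𝓕.t_pos⟩).trans (hle ⟨0, 𝓕.t_pos⟩)
    rw [hmu]
    refine Bound.sum_add_mu_le hδ hss 𝓕 hcoh hle hpos _
      (fun i => Subsingleton (Coh.HH X (ShStab.twist X L ((𝓕.piece i : Subobject E) : X.Modules) m) 1))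
      ((α : ℚ) * ((m : ℚ) - (B : ℚ) - |(e : ℚ)|)) ?_ ?_ ?_
    · rw [hα]
      have hcn : (0 : ℚ) ≤ ca := by exact_mod_cast hca0
      have hB0 : (0 : ℚ) ≤ B := by exact_mod_cast hB
      have hB1 : (0 : ℚ) ≤ B' := by exact_mod_cast hB'
      have hS0 : (0 : ℚ) ≤ S := by
        exact_mod_cast (show 0 ≤ S by have := abs_nonneg e; omega)
      have h1 : δ * ((a : ℚ) * ((α : ℚ) - 1)) ≤ (ca : ℚ) * α := by
        rw [← mul_assoc]
        exact (mul_le_mul_of_nonneg_left (by linarith) (by positivity)).trans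
          (mul_le_mul_of_nonneg_right hcaq (by linarith))
      have h2 : (α : ℚ) * (ca : ℚ) < (α : ℚ) * ((m : ℚ) - (B : ℚ) - |(e : ℚ)|) :=
        mul_lt_mul_of_pos_left (by linarith) (by linarith)
      linarith
    · intro i hi
      have h := congrArg (Int.cast : ℤ → ℚ) (Bound.h0_eq k hdim hL (hcoh i) m hi)
      push_cast at h
      rw [h, hEe, hα, he]
      ring
    · intro i hi
      have h := (hd m hm₁ _ (hcoh i) (nt_of_mono k (𝓕.piece i).arrow hnt) (ub_of_mono k (𝓕.piece i).arrow
        (he ▸ ub_of_ss k hdim hpure hL hE T hδ hss)) (hα ▸ hle i)).resolve_left hi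
      have h' : (Module.finrank k (Coh.HH X (ShStab.twist X L ((𝓕.piece i : Subobject E) : X.Modules) m) 0) : ℚ) ≤
          ((DecSh.mult k X L ((𝓕.piece i : Subobject E) : X.Modules) : ℚ) - 1) * (m : ℚ) + (B : ℚ) := by
        exact_mod_cast h
      have h1 := mul_le_mul_of_nonneg_left h' (show (0 : ℚ) ≤ α by linarith)
      have h2 : -(DecSh.mult k X L ((𝓕.piece i : Subobject E) : X.Modules) : ℚ) * (e : ℚ) ≤
          (α : ℚ) * |(e : ℚ)| := by
        rw [neg_mul, ← mul_neg]
        refine (mul_le_mul_of_nonneg_left (neg_le_abs _) ?_).trans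
          (mul_le_mul_of_nonneg_right ?_ heE)
        · exact_mod_cast le_trans zero_le_one (hpos i)
        · exact_mod_cast hα ▸ hle i
      rw [hEe]
      linarith
  refine ⟨⟨fun hss 𝓕 hcoh => (hmain hss 𝓕 hcoh).1, fun h 𝓕 hcoh => ?_⟩, ⟨fun hss 𝓕 hcoh => ?_, ?_⟩,
    hH1, fun hss 𝓕 hcoh h0 i => ?_⟩
  · refine le_trans (add_le_add (Finset.sum_le_sum fun i _ => ?_) le_rfl) (h 𝓕 hcoh)
    refine mul_le_mul_of_nonneg_left ?_ (𝓕.wt_pos i).le
    have h1 : (Curv2.euler k X ((𝓕.piece i : Subobject E) : X.Modules) : ℚ) +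
        (m : ℚ) * (DecSh.mult k X L ((𝓕.piece i : Subobject E) : X.Modules) : ℚ) ≤
        (Module.finrank k (Coh.HH X (ShStab.twist X L ((𝓕.piece i : Subobject E) : X.Modules) m) 0) : ℚ) := by
      exact_mod_cast (Bound.euler_twist k hdim hL (hcoh i) m).2
    have hα0 : (0 : ℚ) ≤ α := by exact_mod_cast hα ▸ Mult.mult_nonneg k hdim hL hE
    have h2 := mul_le_mul_of_nonneg_left h1 hα0
    dsimp only
    rw [hEe, hα, he]
    linarith
  · refine le_trans (add_le_add (Finset.sum_le_sum fun i _ => ?_) le_rfl) (hss 𝓕 hcoh)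
    refine mul_le_mul_of_nonneg_left ?_ (𝓕.wt_pos i).le
    obtain ⟨hc, e1, e2⟩ := quot_data k hdim hpure hL hE (𝓕.piece i) (hcoh i)
    have h1 : (Curv2.euler k X (cokernel (𝓕.piece i).arrow) : ℚ) +
        (m : ℚ) * (DecSh.mult k X L (cokernel (𝓕.piece i).arrow) : ℚ) ≤
        (Module.finrank k (Coh.HH X (ShStab.twist X L (cokernel (𝓕.piece i).arrow) m) 0) : ℚ) := by
      exact_mod_cast (Bound.euler_twist k hdim hL hc m).2
    rw [e1, e2] at h1
    push_cast at h1
    have hα0 : (0 : ℚ) ≤ α := by exact_mod_cast hα ▸ Mult.mult_nonneg k hdim hL hE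
    have h2 := mul_le_mul_of_nonneg_left h1 hα0
    dsimp only
    rw [hEe, e1, hα, he] at *
    push_cast
    linarith
  · intro h
    have hone : Subsingleton (Coh.HH X (ShStab.twist X L E m) 1) := by
      suffices hUB : UB k L E (|e| + S * |α| + 1) by
        refine h1_of_dich k hdim hpure hL hE m (hd' m hm₂ E hE hnt hUB hα.le) ?_
        rw [he]
        have := neg_abs_le e
        have := abs_nonneg e
        omega
      rcases (Mult.mult_nonneg k hdim hL hE).eq_or_lt with hz | hpos
      · intro H i hi hH hp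
        have := Mult.mult_le_of_mono k hdim hL i hH hE
        omega
      -- quotients are bounded below
      have hQB : QB k L E (-S) := by
        by_contra hq
        obtain ⟨Q, p, hp, hQ, hlt, hsub⟩ := exists_min_quot k hdim hL hE hq
        obtain ⟨hQU, hQT⟩ := ub_min_quot k hdim hpure hL hQ hsub
        have hQp : 0 < DecSh.mult k X L Q := by
          refine (Mult.mult_nonneg k hdim hL hQ).lt_of_ne fun h0 => ?_
          have := euler_nonneg_of_mult_zero k hdim hpure hL hQ h0.symm
          rw [← h0, mul_zero] at hlt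
          omega
        have hK := CohBasics.Closure.isCoh_kernel p hE hQ.1
        by_cases hK0 : IsZero (kernel p)
        · have : Mono p := Preadditive.mono_of_kernel_zero (hK0.eq_of_src _ _)
          have := isIso_of_mono_of_epi p
          rw [← Mult.mult_congr k (asIso p), ← Curves.Euler.euler_eq_of_iso (k := k) (asIso p),
            hα, he] at hlt
          rw [hα] at hpos
          have h1 : S * 1 ≤ S * α :=
            mul_le_mul_of_nonneg_left hpos (by have := abs_nonneg e; omega)
          have := neg_abs_le e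
          linarith [Int.natCast_nonneg C]
        have hni : ¬ IsIso (kernel.ι p) := fun hi => by
          have hp0 : p = 0 := by
            rw [← cancel_epi (kernel.ι p), kernel.condition, comp_zero]
          have hzQ : IsZero Q := by
            rw [IsZero.iff_id_eq_zero, ← cancel_epi p, hp0, zero_comp, zero_comp]
          have h0 := Mult.mult_congr k (L := L) (hzQ.iso
            (Functor.map_isZero (TensorMod.Basic.tensorBy L) hzQ))
          have h1 := Curves.Euler.euler_eq_of_iso (k := k) (hzQ.iso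
            (Functor.map_isZero (TensorMod.Basic.tensorBy L) hzQ))
          change Curv2.euler k X Q = Curv2.euler k X (CohB1.tensorMod Q L) at h1
          rw [DecSh.mult, ← h1, sub_self] at hQp
          exact lt_irrefl _ hQp
        obtain ⟨hP1, hP2, hP3⟩ := Apps.mk_data (kernel.ι p) hK hK0 hni
        have h1 := h (_root_.DecSh.WFilt.single (Subobject.mk (kernel.ι p)) hP1 hP2) fun _ => hP3
        obtain ⟨hc, e1, e2⟩ := quot_data k hdim hpure hL hE _ hP3
        let iso : cokernel (Subobject.mk (kernel.ι p)).arrow ≅ Q :=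
          cokernel.mapIso _ _ (Subobject.underlyingIso (kernel.ι p)) (Iso.refl E) (by simp) ≪≫
            (cokernelIsCokernel (kernel.ι p)).coconePointUniqueUpToIso
              (Abelian.epiIsCokernelOfKernel (KernelFork.ofι (kernel.ι p) (kernel.condition p))
                (kernelIsKernel p))
        have h2 := mul_le_mul_of_nonneg_left
          (MuBound.single_mu_ge (α := fun P => DecSh.mult k X L (P : X.Modules)) _ hP1 hP2 T.nv
            (Mult.mult_nonneg k hdim hL hE)) hδ.le
        rw [hmu] at h1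
        have h3 := hC (-S + 1 + m) (ShStab.twist X L Q m) (CurveBundle.Twist.isCoh
            (TensorMod.Invertible.isInvertible_tensorPow hLi m) hQ)
          (nt_twist k hdim hL (TensorMod.Invertible.isInvertible_tensorPow hLi m)
            (fun H hH => (Mult.euler_twist_pow k hdim hLi hH m).1) hQT)
          (ub_twist_pow k hdim hL hQ m hQU)
        rw [max_eq_right (show 0 ≤ -S + 1 + (m : ℤ) + C by omega),
          show DecSh.mult k X L (ShStab.twist X L Q m) = DecSh.mult k X L Q from
            (Mult.euler_twist_pow k hdim hLi hQ m).1] at h3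
        have h3' : (Module.finrank k (Coh.HH X (ShStab.twist X L Q m) 0) : ℚ) ≤
            (-(S : ℚ) + 1 + (m : ℚ) + (C : ℚ)) * (DecSh.mult k X L Q : ℚ) := by exact_mod_cast h3
        have h4 : (Module.finrank k (Coh.HH X (ShStab.twist X L
            (cokernel (Subobject.mk (kernel.ι p)).arrow) m) 0) : ℚ) =
            (Module.finrank k (Coh.HH X (ShStab.twist X L Q m) 0) : ℚ) := by
          exact_mod_cast (Curves.LES.isoK k
            ((TensorMod.Basic.tensorBy (CohB1.tensorPow L m)).mapIso iso) 0).finrank_eq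
        have h5 := Mult.mult_congr k (L := L) iso
        have h1' : (DecSh.mult k X L Q : ℚ) * ((e : ℚ) + (m : ℚ) * (α : ℚ)) -
            (α : ℚ) * (Module.finrank k (Coh.HH X (ShStab.twist X L Q m) 0) : ℚ) +
            δ * (_root_.DecSh.WFilt.single _ hP1 hP2).mu (DecSh.mult k X L E)
              (fun P => DecSh.mult k X L (P : X.Modules)) T.nv ≤ 0 := by
          refine le_trans (le_of_eq ?_) h1
          congr 1
          refine Eq.symm ((Fin.sum_univ_one _).trans ((one_mul _).trans ?_))
          change (DecSh.mult k X L (cokernel (Subobject.mk (kernel.ι p)).arrow) : ℚ) * _ -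
            (α : ℚ) * (Module.finrank k (Coh.HH X (ShStab.twist X L
              (cokernel (Subobject.mk (kernel.ι p)).arrow) m) 0) : ℚ) = _
          rw [h4, h5, hEe]
        have hQq : (1 : ℚ) ≤ DecSh.mult k X L Q := by exact_mod_cast hQp
        have hAq : (1 : ℚ) ≤ α := by exact_mod_cast hα ▸ hpos
        have h6 : (DecSh.mult k X L Q : ℚ) = (DecSh.mult k X L E : ℚ) -
            (DecSh.mult k X L (Subobject.mk (kernel.ι p) : X.Modules) : ℚ) := by
          exact_mod_cast h5.symm.trans e1
        rw [← h6] at h2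
        set q : ℚ := (DecSh.mult k X L Q : ℚ)
        have h7 := mul_le_mul_of_nonneg_left h3' (show (0 : ℚ) ≤ α by linarith)
        have hSC : (S : ℚ) = (C : ℚ) + |(e : ℚ)| + (ca : ℚ) + 3 := by
          rw [hS]; push_cast; ring
        have hcn : (0 : ℚ) ≤ ca := by exact_mod_cast hca0
        have h8 : q * (-(e : ℚ)) ≤ q * ((α : ℚ) * |(e : ℚ)|) :=
          mul_le_mul_of_nonneg_left ((neg_le_abs _).trans (le_mul_of_one_le_left heE hAq)) (by linarith)
        have h9 : q * (δ * (a : ℚ)) ≤ q * ((α : ℚ) * (ca : ℚ)) :=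
          mul_le_mul_of_nonneg_left (hcaq.trans (le_mul_of_one_le_left hcn hAq)) (by linarith)
        have h10 : 0 < q * (α : ℚ) := by positivity
        rw [hSC] at h7
        linarith
      intro H i hi hH hp
      have hR := CohBasics.Closure.isCoh_cokernel i hH.1 hE
      have hS' : (ShortComplex.mk i (cokernel.π i) (cokernel.condition i)).ShortExact :=
        { exact := ShortComplex.exact_cokernel i }
      have ha := Mult.mult_add k hLi hS' hH hE hR
      have hx := ParBun.Proper.euler_add (k := k) hS' hH hE hR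
      dsimp only at ha hx
      have hb := hQB (cokernel i) (cokernel.π i) inferInstance hR
      have hR0 := Mult.mult_nonneg k hdim hL hR
      have hS0 : (0 : ℤ) ≤ S := by have := abs_nonneg e; omega
      have h1 : S * DecSh.mult k X L (cokernel i) ≤ S * |α| :=
        mul_le_mul_of_nonneg_left (by have := le_abs_self α; omega) hS0
      have h2 := le_abs_self e
      have h3 : (|e| + S * |α| + 1) * 1 ≤ (|e| + S * |α| + 1) * DecSh.mult k X L H :=
        mul_le_mul_of_nonneg_left hp (by positivity)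
      linarith
    intro 𝓕 hcoh
    refine le_trans (le_of_eq ?_) (h 𝓕 hcoh)
    unfold _root_.DecSh.WFilt.msum
    congr 1
    refine Finset.sum_congr rfl fun i _ => ?_
    obtain ⟨hc, e1, e2⟩ := quot_data k hdim hpure hL hE (𝓕.piece i) (hcoh i)
    have h1 := congrArg (Int.cast : ℤ → ℚ) (Bound.h0_eq k hdim hL hc m
      (h1_quot k hdim hpure hL (cokernel.π (𝓕.piece i).arrow) m hone))
    push_cast at h1
    rw [h1, e1, e2, hEe, hα, he]
    push_cast
    ring
  · have h1 := (hmain hss 𝓕 hcoh).2 h0 i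
    rw [Bound.h0_eq k hdim hL (hcoh i) m h1, (Bound.euler_twist k hdim hL (hcoh i) m).1]

end Groth.Agent.Lib.DecShLib.Sectional
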