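import Groth.Agent.Lib.DecSh.Family
import Groth.Agent.Lib.DecSh.Sectional

/-!
# Boundedness of semistable tensor fields and of their subsheaves
-/

set_option autoImplicit false
universe u

open CategoryTheory Limits AlgebraicGeometry

namespace Groth.Agent.Lib.DecShLib.Bounded

open Groth.Agent.Lib Sec

variable (k : Type u) [Field k] [IsAlgClosed k] {X : Scheme.{u}} [X.Over (Spec (CommRingCat.of k))]
  [IsProper (X ↘ Spec (CommRingCat.of k))] [IsReduced X] (hdim : topologicalKrullDim X ≤ 1)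
  (hpure : ∀ x : X, ¬ IsOpen ({x} : Set X)) {L : X.Modules} (hL : CohB1.IsAmple L)

include hdim hpure hL

/-- Semistable tensor fields of given numerical type are bounded. -/
theorem isBounded_ss (δ : ℚ) (hδ : 0 < δ) (α e : ℤ) (a b : ℕ) (D : X.Modules) :
    Pic13.IsBounded k X (fun F => Coh.IsCoh F ∧ TorSh.IsTorsionFree F ∧ DecSh.mult k X L F = α ∧
      Curv2.euler k X F = e ∧ ∃ T : DecSh.TF F a b D, T.IsSemistable k L δ) := by
  refine BddFam.Presented.mono k (fun F ⟨hF, htf, hα, he, T, hT⟩ => ?_)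
    (Family.isBounded_family k hdim hpure hL (|e| + ⌈δ * (a : ℚ)⌉ + 1) e α)
  exact ⟨hF, Sectional.nt_of_tf k hdim hpure hL htf,
    he ▸ Sectional.ub_of_ss k hdim hpure hL hF T hδ hT, hα.le, he.ge⟩

/-- Together with those satisfying the quotient sectional condition at a large twist. -/
theorem isBounded_or_quotSectional (δ : ℚ) (hδ : 0 < δ) (α e : ℤ) (a b : ℕ) (D : X.Modules) :
    ∃ N₁ : ℕ, (Pic13.IsBounded k X (fun F => Coh.IsCoh F ∧ TorSh.IsTorsionFree F ∧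
        DecSh.mult k X L F = α ∧ Curv2.euler k X F = e ∧
          ∃ T : DecSh.TF F a b D, (T.IsSemistable k L δ ∨ ∃ m : ℕ, N₁ ≤ m ∧
            ∀ 𝓕 : DecSh.WFilt F, (∀ i, Coh.IsCoh ((𝓕.piece i : Subobject F) : X.Modules)) →
              (∑ i, 𝓕.wt i * ((DecSh.mult k X L (cokernel (𝓕.piece i).arrow) : ℚ) *
                  (Curv2.euler k X (ShStab.twist X L F m) : ℚ) -
                (α : ℚ) * (Module.finrank k (Coh.HH X (ShStab.twist X L (cokernel (𝓕.piece i).arrow) m) 0) : ℚ))) +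
                δ * T.mu k L 𝓕 ≤ 0))) ∧
      ∀ C : ℚ, Pic13.IsBounded k X (fun F' => Coh.IsCoh F' ∧
      (∃ (F : X.Modules) (ι : F' ⟶ F), Mono ι ∧ TorSh.IsTorsionFree (cokernel ι) ∧
        Coh.IsCoh F ∧ TorSh.IsTorsionFree F ∧ DecSh.mult k X L F = α ∧ Curv2.euler k X F = e ∧
          ∃ T : DecSh.TF F a b D, (T.IsSemistable k L δ ∨ ∃ m : ℕ, N₁ ≤ m ∧
            ∀ 𝓕 : DecSh.WFilt F, (∀ i, Coh.IsCoh ((𝓕.piece i : Subobject F) : X.Modules)) →
              (∑ i, 𝓕.wt i * ((DecSh.mult k X L (cokernel (𝓕.piece i).arrow) : ℚ) *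
                  (Curv2.euler k X (ShStab.twist X L F m) : ℚ) -
                (α : ℚ) * (Module.finrank k (Coh.HH X (ShStab.twist X L (cokernel (𝓕.piece i).arrow) m) 0) : ℚ))) +
                δ * T.mu k L 𝓕 ≤ 0)) ∧
      |(Curv2.euler k X F' : ℚ) - (DecSh.mult k X L F' : ℚ) * (((e : ℚ) - (a : ℚ) * δ) / (α : ℚ))| ≤ C) := by
  obtain ⟨N₀, h⟩ := Sectional.exists_main k hdim hpure hL δ hδ α e a b
  refine ⟨N₀, ?_, fun C => ?_⟩
  · refine BddFam.Presented.mono k (fun F ⟨hF, htf, hα, he, T, hT⟩ =>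
      ⟨hF, htf, hα, he, T, hT.elim id ?_⟩) (isBounded_ss k hdim hpure hL δ hδ α e a b D)
    rintro ⟨m, hm, hsec⟩
    exact (h m hm F hF htf hα he D T).2.1.mpr hsec
  · set c : ℚ := ((e : ℚ) - (a : ℚ) * δ) / (α : ℚ) with hc
    refine BddFam.Presented.mono k (fun F' hF' => ?_) (Family.isBounded_family k hdim hpure hL
      (|e| + ⌈δ * (a : ℚ)⌉ + 1) (-⌈|C| + |(α : ℚ)| * |c|⌉) α)
    obtain ⟨hF', ⟨F, ι, hι, -, hF, htf, hα, he, T, hT⟩, hC⟩ := hF'
    have hss : T.IsSemistable k L δ := hT.elim id fun ⟨m, hm, hsec⟩ =>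
      (h m hm F hF htf hα he D T).2.1.mpr hsec
    have hle : DecSh.mult k X L F' ≤ α := hα ▸ Mult.mult_le_of_mono k hdim hL ι hF' hF
    refine ⟨hF', nt_of_mono k ι (Sectional.nt_of_tf k hdim hpure hL htf),
      ub_of_mono k ι (he ▸ Sectional.ub_of_ss k hdim hpure hL hF T hδ hss), hle, ?_⟩
    have h0 : (0 : ℚ) ≤ (DecSh.mult k X L F' : ℚ) := by
      exact_mod_cast Mult.mult_nonneg k hdim hL hF'
    have h1 : (DecSh.mult k X L F' : ℚ) ≤ |(α : ℚ)| :=
      le_trans (by exact_mod_cast hle) (le_abs_self _)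
    have h2 : -(|(α : ℚ)| * |c|) ≤ (DecSh.mult k X L F' : ℚ) * c := by
      have := mul_le_mul h1 (le_refl |c|) (abs_nonneg _) (abs_nonneg _)
      have := mul_le_mul_of_nonneg_left (neg_abs_le c) h0
      linarith
    have h3 := (abs_le.1 (hC.trans (le_abs_self C))).1
    have h4 := Int.le_ceil (|C| + |(α : ℚ)| * |c|)
    have h5 : ((-⌈|C| + |(α : ℚ)| * |c|⌉ : ℤ) : ℚ) ≤ (Curv2.euler k X F' : ℚ) := by
      push_cast
      linarith
    exact_mod_cast h5

end Groth.Agent.Lib.DecShLib.Bounded
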