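import Groth.Agent.Lib.DecSh.GG
import Groth.Agent.Lib.Ample.GG

/-!
# Global generation from the vanishing of `H¹`, on a reduced curve

There is one `M` such that `G ⊗ L^M` is globally generated for every coherent `G` without torsion and
with `H¹(G) = 0`.
-/

set_option autoImplicit false
universe u

open CategoryTheory Limits AlgebraicGeometry Opposite TopologicalSpace

namespace Groth.Agent.Lib.DecShLib.GGTwist

open Groth.Agent.Lib Groth.Agent.Lib.Modules H34.GlobGen

variable {X : Scheme.{u}}

/-- If the global sections generate at `x` then they generate at the generalisations of `x`. -/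
theorem gl_of_specializes {M : X.Modules} (hM : Coh.IsCoh M) {x y : X} (h : y ⤳ x)
    (hx : Gl M x = ⊤) : Gl M y = ⊤ := by
  obtain ⟨V, hV, hxV, -⟩ := exists_isAffineOpen_mem_and_subset (X := X) (x := x) (U := ⊤) trivial
  haveI := hM.1
  haveI := CohBasics.Closure.finite_sections hM hV
  obtain ⟨n, t, ht⟩ := Module.Finite.exists_fin (R := Γ(X, V)) (M := Γ(M, V))
  have hyV : y ∈ V := h.mem_open V.2 hxV
  refine eq_top_iff.2 ((CohBasics.Affine.germ_span_eq_top hV (Set.range t) ht hyV).ge.trans
    (Submodule.span_le.2 ?_))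
  rintro _ ⟨_, ⟨j, rfl⟩, rfl⟩
  have hs : ∀ v ∈ Gl M x, M.presheaf.stalkSpecializes h v ∈ Gl M y := by
    intro v hv
    induction hv using Submodule.span_induction with
    | mem v hv =>
      obtain ⟨m, rfl⟩ := hv
      refine Submodule.subset_span ⟨m, ?_⟩
      exact (TopCat.Presheaf.germ_stalkSpecializes_apply M.presheaf (U := ⊤) trivial h m).symm
    | zero => rw [map_zero]; exact Submodule.zero_mem _
    | add v w _ _ hv hw => rw [map_add]; exact Submodule.add_mem _ hv hw
    | smul c v _ hv =>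
      obtain ⟨U, hxU, r, m, rfl, rfl⟩ := StalkModule.exists_germ_eq₂ c v
      rw [← StalkModule.germ_smul hxU r m, TopCat.Presheaf.germ_stalkSpecializes_apply,
        StalkModule.germ_smul (h.mem_open U.2 hxU) r m]
      rw [TopCat.Presheaf.germ_stalkSpecializes_apply] at hv
      exact Submodule.smul_mem _ _ hv
  have h1 := hs _ (hx ▸ Submodule.mem_top : M.presheaf.germ V x hxV (t j) ∈ Gl M x)
  rw [TopCat.Presheaf.germ_stalkSpecializes_apply] at h1
  exact h1

/-- Where `s` vanishes, its image is in `m` times the stalk. -/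
theorem range_le_maximal {A G : X.Modules} (s : Coh.structureModule X ⟶ A)
    (hA : PicF.IsInvertible A) {x : X} (hx : x ∉ CohB1.genLocus A s) (w : G.presheaf.stalk x) :
    StalkModule.stalkMapₗ (H97.CurveVanishing.twHom (F := G) s 1) x w ∈
      IsLocalRing.maximalIdeal (X.presheaf.stalk x) •
        (⊤ : Submodule (X.presheaf.stalk x)
          ((CohB1.tensorMod G (CohB1.tensorPow A 1)).presheaf.stalk x)) := by
  obtain ⟨W, e, hxW, he⟩ := TensorMod.Gen.isInvertible_iff.1 hA x
  obtain ⟨a, ha⟩ := Ample.GenLocus.exists_coord he (Ample.GenLocus.sv s W)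
  have hm : X.presheaf.germ W x hxW a ∈ IsLocalRing.maximalIdeal (X.presheaf.stalk x) := by
    refine (IsLocalRing.mem_maximalIdeal _).mpr fun hu => hx ?_
    have hb : x ∈ X.basicOpen a := (X.mem_basicOpen a x hxW).mpr hu
    rw [← Ample.GenLocus.genLocus_inf_eq he s ha] at hb
    exact hb.1
  obtain ⟨V, hV, t, rfl⟩ := TopCat.Presheaf.exists_germ_eq G.presheaf w
  rw [← TopCat.Presheaf.germ_res_apply G.presheaf (homOfLE (inf_le_left : V ⊓ W ≤ V)) x
      (show x ∈ V ⊓ W from ⟨hV, hxW⟩) t,
    StalkModule.stalkMapₗ_germ]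
  set t' : Γ(G, V ⊓ W) := G.presheaf.map (homOfLE (inf_le_left : V ⊓ W ≤ V)).op t
  have hc : Ample.GenLocus.sv s (V ⊓ W) = TensorMod.Dual.rf (inf_le_right : V ⊓ W ≤ W) a •
      TensorMod.Dual.rs A (inf_le_right : V ⊓ W ≤ W) e := by
    rw [← Ample.GenLocus.rs_sv s (inf_le_right : V ⊓ W ≤ W), ha, TensorMod.Dual.rs_smul]
  have h1 : (H97.CurveVanishing.twHom (F := G) s 1).app (V ⊓ W) t' =
      (TensorMod.Dual.rf (inf_le_right : V ⊓ W ≤ W) a •
        (SecTwist.tmul G (CohB1.tensorPow A 1) (V ⊓ W) t'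
          (Ample.Extend.powSec (TensorMod.Dual.rs A (inf_le_right : V ⊓ W ≤ W) e) 1) :
            Γ(CohB1.tensorMod G (CohB1.tensorPow A 1), V ⊓ W))) := by
    rw [H97.CurveVanishing.twHom_app, Ample.Extend.twist_eq hc, pow_one]
    rw [← Ample.GenLocus.pairM_id, ← Ample.GenLocus.pairM_id, TensorMod.Pullback.pairM_smul_left]
    rfl
  rw [h1]
  erw [StalkModule.germ_smul]
  refine Submodule.smul_mem_smul ?_ Submodule.mem_top
  erw [TopCat.Presheaf.germ_res_apply X.presheaf]
  exact hm

variable (k : Type u) [Field k] [IsAlgClosed k] [X.Over (Spec (CommRingCat.of k))]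
  [IsProper (X ↘ Spec (CommRingCat.of k))] [IsReduced X] (hdim : topologicalKrullDim X ≤ 1)
  (hpure : ∀ x : X, ¬ IsOpen ({x} : Set X)) {L : X.Modules} (hL : CohB1.IsAmple L)

include k hdim hpure hL

/-- At a large twist a closed point is cut out by a section alive at all generic points. -/
theorem exists_section : ∃ M : ℕ, ∀ x : X, IsClosed ({x} : Set X) →
    ∃ σ : Coh.structureModule X ⟶ ShStab.twist X L (Coh.structureModule X) M,
      x ∉ CohB1.genLocus _ σ ∧ ∀ η ∈ genericPoints X, η ∈ CohB1.genLocus _ σ := by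
  have := Curves.GlobalSections.isNoetherian_of_proper k X
  have hLi := (Ample.Pow.isAmple_iff.1 hL).1
  have hO := Snapper.Twist.isCoh_structureModule X
  have hOT : TorSh.IsTorsionFree (Coh.structureModule X) := CurveBundle.Coherent.isTorsionFree
    (TensorMod.LocFree.of_rank (TensorMod.LocFree.of_isInvertible
      (PicLoc.isInvertible_structureModule X)))
  set α := DecSh.mult k X L (Coh.structureModule X) with hα
  set e := Curv2.euler k X (Coh.structureModule X)
  set h₀ := Curves.Euler.hdim k X (Coh.structureModule X) 0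
  have hUB : Sec.UB k L (Coh.structureModule X) ((h₀ : ℤ) + 1) := fun H i hi hH hp => by
    have := Snapper.Finite.cohFinite k X _ hO 0
    have h1 : (Curves.Euler.hdim k X H 0 : ℤ) ≤ h₀ := by
      exact_mod_cast Curves.Euler.hdim_zero_le_of_mono (k := k) i
    rw [Curves.Euler.euler_eq (k := k) (Curves.Positivity.subsingleton_HH_of_two_le hdim _)]
    have h2 : ((h₀ : ℤ) + 1) * 1 ≤ ((h₀ : ℤ) + 1) * DecSh.mult k X L H :=
      mul_le_mul_of_nonneg_left hp (by omega)
    linarith [Int.natCast_nonneg (Curves.Euler.hdim k X H 1)]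
  obtain ⟨C, hC⟩ := Sec.exists_h0_bound k hdim hpure hL
  refine ⟨(((h₀ : ℤ) + 1 + C) * |α| + |e| + 2).toNat, fun x hx => ?_⟩
  set M := (((h₀ : ℤ) + 1 + C) * |α| + |e| + 2).toNat
  have hM : ((h₀ : ℤ) + 1 + C) * |α| + |e| + 2 ≤ (M : ℤ) := Int.self_le_toNat _
  let A := ShStab.twist X L (Coh.structureModule X) M
  have hP := TensorMod.Invertible.isInvertible_tensorPow hLi M
  have hA : PicF.IsInvertible A :=
    TensorMod.Invertible.isInvertible_of_iso (TensorMod.Basic.leftUnit _).symm hP
  have hAc : Coh.IsCoh A := CurveBundle.Twist.isCoh hP hO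
  have hAT : Sec.NT k L A := Sec.nt_twist k hdim hL hP
    (fun H hH => (Mult.euler_twist_pow k hdim hLi hH M).1)
    (fun H i _ hH h0 => Sec.isZero_of_mult_zero k hdim hpure hL hOT i hH h0)
  have hAU : Sec.UB k L A ((h₀ : ℤ) + 1 + M) := Sec.ub_twist_pow k hdim hL hO M hUB
  obtain ⟨hK, hK1, hK2⟩ := GG.kernel_data k hdim hpure hL (TensorMod.LocFree.of_isInvertible hA) hx
  set Kx := kernel (GG.res hx A)
  let ιK : Kx ⟶ A := kernel.ι (GG.res hx A)
  haveI : Mono ιK := inferInstanceAs (Mono (kernel.ι (GG.res hx A)))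
  have := Snapper.Finite.cohFinite k X _ hK 0
  have := Snapper.Finite.cohFinite k X _ hAc 0
  have hV : (M : ℤ) * α + e - 1 ≤ (Curves.Euler.hdim k X Kx 0 : ℤ) := by
    have h1 := Curves.Euler.euler_eq (k := k) (F := Kx)
      (Curves.Positivity.subsingleton_HH_of_two_le hdim _)
    have h2 := (Mult.euler_twist_pow k hdim hLi hO M).2
    change Curv2.euler k X A = e + M * α at h2
    rw [h2, Nat.cast_one] at hK2
    linarith [Int.natCast_nonneg (Curves.Euler.hdim k X Kx 1)]
  let f := Curves.LES.mapK k ιK 0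
  have hf : Function.Injective f := Curves.LES.mapK_injective_of_mono k ιK
  -- sections with vanishing germ at a generic point
  let g0 : Coh.HH X A 0 ≃+ Γ(A, ⊤) := Curves.GlobalSections.h0Equiv A
  let p : X → Submodule k (Coh.HH X A 0) := fun η =>
    { carrier := {z | A.presheaf.germ ⊤ η trivial (g0 z) = 0}
      add_mem' := fun {a b} ha hb => by
        change A.presheaf.germ ⊤ η trivial (g0 (a + b)) = 0
        rw [map_add, map_add, ha, hb, add_zero]
      zero_mem' := by
        change A.presheaf.germ ⊤ η trivial (g0 0) = 0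
        rw [map_zero, map_zero]
      smul_mem' := fun c z hz => by
        change A.presheaf.germ ⊤ η trivial (g0 (c • z)) = 0
        refine (congrArg (A.presheaf.germ ⊤ η trivial)
          (Curves.GlobalSections.h0Equiv_smul A _ z)).trans
          ((StalkModule.germ_smul (M := A) (U := ⊤) (x := η) trivial
            (show Γ(X, ⊤) from Coh.toGlobal (X ↘ Spec (CommRingCat.of k)) c) (g0 z)).trans ?_)
        exact (congrArg (_ • ·) hz).trans (smul_zero _) }
  have hp : ∀ η ∈ genericPoints X, (p η).comap f ≠ ⊤ := by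
    intro η hη htop
    let bs := Module.finBasis k (p η)
    let w : FlatMod.freeMod X (Module.finrank k (p η)) ⟶ A :=
      Modules.Free.freeHom fun i => g0 (bs i : Coh.HH X A 0)
    have hP' := Perfect.Coherent.isCoh_freeMod X (Module.finrank k (p η))
    have hJ := CohBasics.Closure.isCoh_cokernel (kernel.ι w) (CohBasics.Closure.isCoh_kernel w hP' hAc.1).1 hP'
    let J := Abelian.coimage w
    let j : J ⟶ A := Abelian.factorThruCoimage w
    have hjη : ∀ v : J.presheaf.stalk η, StalkModule.stalkMapₗ j η v = 0 := by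
      intro v
      obtain ⟨u', rfl⟩ := (StalkModule.epi_iff_stalkMapₗ_surjective (Abelian.coimage.π w)).mp
        inferInstance η v
      rw [← LinearMap.comp_apply, ← StalkModule.stalkMapₗ_comp, Abelian.coimage.fac]
      have hspan := Modules.Free.span_germ_gen (n := Module.finrank k (p η)) η
      refine (LinearMap.mem_ker).mp ((hspan.ge.trans (Submodule.span_le.2 ?_)) Submodule.mem_top)
      rintro _ ⟨i, rfl⟩
      rw [SetLike.mem_coe, LinearMap.mem_ker, Modules.Free.freeHom_stalk_germ]
      exact (bs i).2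
    have hsub : Subsingleton (J.presheaf.stalk η) := subsingleton_of_forall_eq 0 fun v =>
      (StalkModule.mono_iff_stalkMapₗ_injective j).mp inferInstance η ((hjη v).trans (map_zero _).symm)
    have hR := CohBasics.Closure.isCoh_cokernel j hJ.1 hAc
    have hS : (ShortComplex.mk j (cokernel.π j) (cokernel.condition j)).ShortExact :=
      { exact := ShortComplex.exact_cokernel j }
    have hadd := Mult.mult_add k hLi hS hJ hAc hR
    dsimp only at hadd
    have hAη : ¬ Subsingleton ((cokernel j).presheaf.stalk η) := by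
      intro hq
      have hbij : Function.Surjective (StalkModule.stalkMapₗ j η) := by
        intro v
        obtain ⟨u', hu'⟩ := (ShortComplex.ab_exact_iff _).1 ((Stalk.exact_iff_stalk _).1 hS.exact η) v
          (Subsingleton.elim (α := (cokernel j).presheaf.stalk η) _ _)
        exact ⟨u', hu'⟩
      have : Subsingleton (A.presheaf.stalk η) := hbij.subsingleton
      obtain ⟨b⟩ := CurveBundle.Coherent.exists_basis_stalk (TensorMod.LocFree.of_isInvertible hA) η
      exact b.ne_zero 0 (Subsingleton.elim _ _)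
    have hq := Sec.mult_pos_of_stalk k hdim hpure hL hR hη hAη
    have hmA : DecSh.mult k X L A = α := (Mult.euler_twist_pow k hdim hLi hO M).1
    have hb := hC ((h₀ : ℤ) + 1 + M) J hJ (Sec.nt_of_mono k j hAT) (Sec.ub_of_mono k j hAU)
    have hJ0 := Mult.mult_nonneg k hdim hL hJ
    rw [max_eq_right (show 0 ≤ (h₀ : ℤ) + 1 + M + C by omega)] at hb
    -- the image contains all those sections
    have := Snapper.Finite.cohFinite k X _ hJ 0
    have hle : p η ≤ LinearMap.range (Curves.LES.mapK k j 0) := by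
      intro z hz
      have : z ∈ Submodule.span k (Set.range fun i => (bs i : Coh.HH X A 0)) := by
        rw [show (Set.range fun i => (bs i : Coh.HH X A 0)) = (p η).subtype '' Set.range bs by
          rw [← Set.range_comp]; rfl, Submodule.span_image, bs.span_eq, Submodule.map_top,
          Submodule.range_subtype]
        exact hz
      refine (Submodule.span_le.2 ?_) this
      rintro _ ⟨i, rfl⟩
      let z' := (Curves.GlobalSections.h0Equiv J).symm
        ((Abelian.coimage.π w).app ⊤ (Modules.Free.gen X i))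
      refine ⟨z', g0.injective ?_⟩
      have hn : g0 (Curves.LES.mapK k j 0 z') = j.app ⊤ (Curves.GlobalSections.h0Equiv J z') :=
        (Sheaf.H.equiv₀_naturality (F := Coh.toAb J) (G := Coh.toAb A)
          (isTerminalTop (α := Opens X)) (Curves.LES.toAbMap j) z').symm
      rw [hn, AddEquiv.apply_symm_apply, ← CategoryTheory.comp_apply, ← Scheme.Modules.Hom.comp_app,
        Abelian.coimage.fac, Modules.Free.freeHom_app_gen]
    have hd1 := (Submodule.finrank_mono hle).trans (LinearMap.finrank_range_le _)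
    have hd2 : Curves.Euler.hdim k X Kx 0 ≤ Module.finrank k (p η) := by
      have hr : LinearMap.range f ≤ p η := by
        rintro _ ⟨v, rfl⟩
        exact (htop ▸ Submodule.mem_top : v ∈ (p η).comap f)
      exact (LinearMap.finrank_range_of_inj hf).symm.le.trans (Submodule.finrank_mono hr)
    have hd : (Curves.Euler.hdim k X Kx 0 : ℤ) ≤ (Curves.Euler.hdim k X J 0 : ℤ) := by
      exact_mod_cast hd2.trans hd1
    have h3 : ((h₀ : ℤ) + 1 + M + C) * DecSh.mult k X L J ≤ ((h₀ : ℤ) + 1 + M + C) * (α - 1) :=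
      mul_le_mul_of_nonneg_left (by omega) (by omega)
    have h4 : ((h₀ : ℤ) + 1 + C) * (α - 1) ≤ ((h₀ : ℤ) + 1 + C) * |α| :=
      mul_le_mul_of_nonneg_left (by have := le_abs_self α; omega) (by omega)
    linarith [neg_abs_le e]
  obtain ⟨v, hv⟩ : ∃ v, ∀ η : genericPoints X, v ∉ (p η.1).comap f := by
    have hfin : (genericPoints X).Finite :=
      genericPoints.finite NoetherianSpace.finite_irreducibleComponents
    have := hfin.to_subtype
    by_contra hcon
    obtain ⟨η, hη⟩ := Subspace.exists_eq_top_of_iUnion_eq_univ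
      (p := fun η : genericPoints X => (p η.1).comap f)
      (Set.eq_univ_of_forall fun v => Set.mem_iUnion.2 <| by
        by_contra h; exact hcon ⟨v, fun η hv => h ⟨η, hv⟩⟩)
    exact hp η.1 η.2 hη
  obtain ⟨σ, hσ⟩ := Ample.GenLocus.exists_hom_of_sec (L := A) (g0 (f v))
  refine ⟨σ, fun hxg => ?_, fun η hη => ?_⟩
  · have h0 : StalkModule.stalkMapₗ (GG.res hx A) x (A.presheaf.germ ⊤ x trivial (g0 (f v))) = 0 := by
      have hn : g0 (f v) = ιK.app ⊤ (Curves.GlobalSections.h0Equiv Kx v) :=
        (Sheaf.H.equiv₀_naturality (F := Coh.toAb Kx) (G := Coh.toAb A)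
          (isTerminalTop (α := Opens X)) (Curves.LES.toAbMap ιK) v).symm
      rw [hn, ← StalkModule.stalkMapₗ_germ, ← LinearMap.comp_apply, ← StalkModule.stalkMapₗ_comp,
        kernel.condition, StalkModule.stalkMapₗ_zero, LinearMap.zero_apply]
    have hr : x ∈ Set.range (Curves.PointIdeal.ptI hx).subschemeι := by
      rw [Scheme.IdealSheafData.range_subschemeι, Curves.PointIdeal.support_ptI]
      rfl
    have key : ∀ q ∈ Set.range (Curves.PointIdeal.ptI hx).subschemeι, ∀ a,
        StalkModule.stalkMapₗ (GG.res hx A) q a = 0 →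
        a ∈ IsLocalRing.maximalIdeal (X.presheaf.stalk q) •
          (⊤ : Submodule (X.presheaf.stalk q) (A.presheaf.stalk q)) := by
      rintro q ⟨z, rfl⟩ a ha
      exact Submodule.smul_mono_left (IsLocalRing.le_maximalIdeal (RingHom.ker_ne_top _))
        (Cyc.Dev.SchemeCase.stalk_kernel_unit_le _ A z a ha)
    have hm := key x hr _ h0
    obtain ⟨b⟩ := CurveBundle.Coherent.exists_basis_stalk (TensorMod.LocFree.of_isInvertible hA) x
    have := RefHull.Reflexive.finite_stalk hAc x
    have hsp : Submodule.span (X.presheaf.stalk x) {A.presheaf.germ ⊤ x trivial (g0 (f v))} = ⊤ := by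
      rw [← hσ]
      obtain ⟨W, e', hxW, he'⟩ := TensorMod.Gen.isInvertible_iff.1 hA x
      obtain ⟨a, ha⟩ := Ample.GenLocus.exists_coord he' (Ample.GenLocus.sv σ W)
      have hb := Ample.GenLocus.genLocus_inf_eq he' σ ha
      have hu : IsUnit (X.presheaf.germ W x hxW a) :=
        (X.mem_basicOpen a x hxW).mp (hb.le ⟨hxg, hxW⟩)
      refine eq_top_iff.2 fun z _ => ?_
      obtain ⟨V, hzV, c, rfl⟩ := TopCat.Presheaf.exists_germ_eq A.presheaf z
      obtain ⟨c', hc'⟩ := Ample.GenLocus.exists_coord (he'.res (inf_le_right : V ⊓ W ≤ W))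
        (TensorMod.Dual.rs A (inf_le_left : V ⊓ W ≤ V) c)
      have hxVW : x ∈ V ⊓ W := ⟨hzV, hxW⟩
      obtain ⟨d, hd⟩ := hu.exists_left_inv
      rw [Submodule.mem_span_singleton]
      refine ⟨X.presheaf.germ _ x hxVW c' * d, ?_⟩
      change _ • Ample.GG.gm (Ample.GG.memTop x) (Ample.GenLocus.sv σ ⊤) = Ample.GG.gm hzV c
      rw [← Ample.GG.gm_rs (inf_le_left : V ⊓ W ≤ V) hxVW c, hc', Ample.GG.gm_smul, Ample.GG.gm_rs,
        ← Ample.GG.gm_rs (le_top : W ≤ ⊤) hxW (Ample.GenLocus.sv σ ⊤), Ample.GenLocus.rs_sv, ha,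
        Ample.GG.gm_smul, smul_smul, mul_assoc, hd, mul_one]
    have htop := Submodule.eq_bot_of_le_smul_of_le_jacobson_bot
      (IsLocalRing.maximalIdeal (X.presheaf.stalk x)) (⊤ : Submodule _ (A.presheaf.stalk x))
      this.fg_top (hsp.ge.trans (Submodule.span_le.2 (Set.singleton_subset_iff.2 hm)))
      (IsLocalRing.maximalIdeal_le_jacobson ⊥)
    exact b.ne_zero 0 ((Submodule.eq_bot_iff _).1 htop _ Submodule.mem_top)
  · by_contra hg
    refine hv ⟨η, hη⟩ ?_
    change A.presheaf.germ ⊤ η trivial (g0 (f v)) = 0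
    obtain ⟨W, e', hηW, he'⟩ := TensorMod.Gen.isInvertible_iff.1 hA η
    obtain ⟨a, ha⟩ := Ample.GenLocus.exists_coord he' (Ample.GenLocus.sv σ W)
    have hF : IsField (X.presheaf.stalk η) :=
      ModelFibre.MaxPoint.isField_stalk fun y hy => Flat55.GenericPoints.eq_of_specializes hη hy
    letI := hF.toField
    have ha0 : X.presheaf.germ W η hηW a = 0 := by
      by_contra hne
      exact hg ((Ample.GenLocus.genLocus_inf_eq he' σ ha).ge
        ((X.mem_basicOpen a η hηW).mpr (isUnit_iff_ne_zero.mpr hne))).1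
    rw [← hσ, ← TopCat.Presheaf.germ_res_apply A.presheaf (homOfLE (le_top : W ≤ ⊤)) η hηW]
    change Ample.GG.gm hηW (TensorMod.Dual.rs A le_top (Ample.GenLocus.sv σ ⊤)) = 0
    rw [Ample.GenLocus.rs_sv, ha, Ample.GG.gm_smul, ha0, zero_smul]

/-- Global generation of a fixed twist from the vanishing of `H¹`. -/
theorem exists_gg_of_h1 : ∃ M : ℕ, ∀ G : X.Modules, Coh.IsCoh G → Sec.NT k L G →
    Subsingleton (Coh.HH X G 1) → Curv2.IsGloballyGenerated (ShStab.twist X L G M) := by
  have := Curves.GlobalSections.isNoetherian_of_proper k X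
  have hLi := (Ample.Pow.isAmple_iff.1 hL).1
  obtain ⟨M, hM⟩ := exists_section k hdim hpure hL
  refine ⟨M, fun G hG hT h1 => gg_of_gl_eq_top fun y => ?_⟩
  have hP := TensorMod.Invertible.isInvertible_tensorPow hLi M
  obtain ⟨x, hxy, hx⟩ := (isClosed_closure (s := ({y} : Set X))).exists_closed_singleton
    ⟨y, subset_closure rfl⟩
  have hc : Coh.IsCoh (ShStab.twist X L G M) := CurveBundle.Twist.isCoh hP hG
  refine gl_of_specializes hc (specializes_iff_mem_closure.mpr hxy) ?_
  obtain ⟨σ, hσx, hσg⟩ := hM x hx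
  let A := ShStab.twist X L (Coh.structureModule X) M
  have hA : PicF.IsInvertible A :=
    TensorMod.Invertible.isInvertible_of_iso (TensorMod.Basic.leftUnit _).symm hP
  let φ := H97.CurveVanishing.twHom (F := G) σ 1
  have hgen : ∀ η ∈ genericPoints X, Function.Bijective (StalkModule.stalkMapₗ φ η) :=
    fun η hη => Mult.bijective_stalk σ hA hG 1 (hσg η hη)
  have := hG.1
  have hc1 := CurveBundle.Twist.isCoh (TensorMod.Invertible.isInvertible_tensorPow hA 1) hG
  have hK := CohBasics.Closure.isCoh_kernel φ hG hc1.1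
  have hK0 : IsZero (kernel φ) := by
    refine hT _ (kernel.ι φ) inferInstance hK ?_
    have ht : ∀ η ∈ genericPoints X, Subsingleton ((kernel φ).presheaf.stalk η) := fun η hη =>
      subsingleton_of_forall_eq 0 fun v => by
        refine (StalkModule.mono_iff_stalkMapₗ_injective (kernel.ι φ)).mp inferInstance η
          ((hgen η hη).1 ?_)
        rw [← LinearMap.comp_apply, ← StalkModule.stalkMapₗ_comp, kernel.condition,
          StalkModule.stalkMapₗ_zero, LinearMap.zero_apply, map_zero, map_zero]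
    rw [DecSh.mult, Curves.Euler.euler_eq_of_iso (k := k) (TensorMod.Basic.comm (kernel φ) L),
      TFOne.EDeg.euler_tensor_torsion (k := k) hdim (TensorMod.LocFree.of_isInvertible hLi) hK ht]
    simp
  have : Mono φ := Preadditive.mono_of_kernel_zero (hK0.eq_of_src _ _)
  let S : ShortComplex X.Modules := ShortComplex.mk φ (cokernel.π φ) (cokernel.condition φ)
  have hS : S.ShortExact := { exact := ShortComplex.exact_cokernel φ }
  have hsurj := H34.HOne.app_top_surjective hS h1
  have hQ : Curv2.IsGloballyGenerated S.X₃ := H34.DefAmple.gg_of_torsion fun z hz =>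
    subsingleton_of_forall_eq 0 fun v => by
      have hzg : z ∈ genericPoints X := (H34.DimOne.isClosed_or_component hdim z).resolve_left hz
      obtain ⟨w, rfl⟩ := (StalkModule.epi_iff_stalkMapₗ_surjective (cokernel.π φ)).mp inferInstance z v
      obtain ⟨u', rfl⟩ := (hgen z hzg).2 w
      rw [← LinearMap.comp_apply, ← StalkModule.stalkMapₗ_comp, cokernel.condition,
        StalkModule.stalkMapₗ_zero, LinearMap.zero_apply]
  have hfin := RefHull.Reflexive.finite_stalk hc1 x
  have htop : Gl (CohB1.tensorMod G (CohB1.tensorPow A 1)) x = ⊤ := by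
    refine eq_top_iff.2 (Submodule.le_of_le_smul_of_le_jacobson_bot
      (I := IsLocalRing.maximalIdeal _) hfin.fg_top
      (IsLocalRing.jacobson_eq_maximalIdeal ⊥ bot_ne_top).ge fun v _ => ?_)
    have hle : Gl S.X₃ x ≤ (Gl S.X₂ x).map (StalkModule.stalkMapₗ S.g x) := by
      rw [Gl, Submodule.span_le]
      rintro _ ⟨m, rfl⟩
      obtain ⟨m', rfl⟩ := hsurj m
      exact ⟨_, Submodule.subset_span ⟨m', rfl⟩, StalkModule.stalkMapₗ_germ S.g _ m'⟩
    obtain ⟨w, hw, hwv⟩ := hle (gl_eq_top_of_gg hQ x ▸ Submodule.mem_top :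
      StalkModule.stalkMapₗ S.g x v ∈ Gl S.X₃ x)
    obtain ⟨u', hu'⟩ := (ShortComplex.ab_exact_iff _).1 ((Stalk.exact_iff_stalk S).1 hS.exact x) (v - w)
      (show StalkModule.stalkMapₗ S.g x (v - w) = 0 by rw [map_sub, hwv, sub_self])
    have hvw : v - w ∈ IsLocalRing.maximalIdeal (X.presheaf.stalk x) •
        (⊤ : Submodule (X.presheaf.stalk x) (S.X₂.presheaf.stalk x)) :=
      hu' ▸ range_le_maximal (G := G) σ hA hσx u'
    have := Submodule.add_mem_sup hw hvw
    rwa [add_sub_cancel] at this
  let iso : CohB1.tensorMod G (CohB1.tensorPow A 1) ≅ ShStab.twist X L G M :=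
    TensorMod.Basic.tensorIso (Iso.refl G)
      (TensorMod.Basic.leftUnit A ≪≫ TensorMod.Basic.leftUnit _)
  refine eq_top_iff.2 fun v _ => ?_
  obtain ⟨w, rfl⟩ := (StalkModule.epi_iff_stalkMapₗ_surjective iso.hom).mp inferInstance x v
  exact map_gl_le iso.hom x ⟨w, htop ▸ Submodule.mem_top, rfl⟩

end Groth.Agent.Lib.DecShLib.GGTwist
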