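import Groth.Agent.Lib.DecSh.Mult

/-!
# Bounds for `μ` of a weighted filtration
-/

set_option autoImplicit false
universe v u

open CategoryTheory Limits

namespace Groth.Agent.Lib.DecShLib.MuBound

section Numeric

variable {C : Type u} [Category.{v} C] {E : C} (𝓕 : _root_.DecSh.WFilt E) {αE : ℤ}
  {α : Subobject E → ℤ} {a : ℕ}

lemma nu_eq_of_eq (I : Fin a → Fin (𝓕.t + 1)) (hle : ∀ i, α (𝓕.piece i) ≤ αE) (i : Fin 𝓕.t)
    (h : α (𝓕.piece i) = αE) : 𝓕.nu αE α I i = a := by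
  unfold _root_.DecSh.WFilt.nu
  rw [Finset.filter_true_of_mem fun j _ => ?_, Finset.card_univ, Fintype.card_fin]
  rw [h]
  cases I j using Fin.lastCases with
  | last => simp
  | cast l => simpa using hle l

/-- Each term of a weight is at most `a (αE - 1)` in absolute value. -/
lemma abs_term_le (I : Fin a → Fin (𝓕.t + 1)) (hle : ∀ i, α (𝓕.piece i) ≤ αE)
    (hpos : ∀ i, 1 ≤ α (𝓕.piece i)) (i : Fin 𝓕.t) :
    |(a : ℚ) * (α (𝓕.piece i) : ℚ) - (𝓕.nu αE α I i : ℚ) * (αE : ℚ)| ≤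
      (a : ℚ) * ((αE : ℚ) - 1) := by
  rcases (hle i).eq_or_lt with h | h
  · rw [nu_eq_of_eq 𝓕 I hle i h, h, sub_self, abs_zero]
    exact mul_nonneg (Nat.cast_nonneg _) (sub_nonneg.mpr (by exact_mod_cast h ▸ hpos i))
  · have hν : (𝓕.nu αE α I i : ℚ) ≤ a := by
      unfold _root_.DecSh.WFilt.nu
      exact_mod_cast (Finset.card_filter_le _ _).trans_eq (by simp)
    have hν0 : (0 : ℚ) ≤ 𝓕.nu αE α I i := Nat.cast_nonneg _
    have h1 : (α (𝓕.piece i) : ℚ) ≤ αE - 1 := by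
      exact_mod_cast (show α (𝓕.piece i) ≤ αE - 1 by omega)
    have h2 : (1 : ℚ) ≤ α (𝓕.piece i) := by exact_mod_cast hpos i
    have hE : (0 : ℚ) ≤ αE := by linarith
    rw [abs_le]
    constructor
    · nlinarith [mul_le_mul_of_nonneg_right hν hE,
        mul_le_mul_of_nonneg_left h2 (Nat.cast_nonneg (α := ℚ) a)]
    · nlinarith [mul_nonneg hν0 hE, mul_le_mul_of_nonneg_left h1 (Nat.cast_nonneg (α := ℚ) a)]

lemma abs_gam_le (I : Fin a → Fin (𝓕.t + 1)) (hle : ∀ i, α (𝓕.piece i) ≤ αE)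
    (hpos : ∀ i, 1 ≤ α (𝓕.piece i)) :
    |𝓕.gam αE α I| ≤ (∑ i, 𝓕.wt i) * (a : ℚ) * ((αE : ℚ) - 1) := by
  unfold _root_.DecSh.WFilt.gam
  refine (Finset.abs_sum_le_sum_abs _ _).trans ?_
  rw [Finset.sum_mul, Finset.sum_mul]
  refine Finset.sum_le_sum fun i _ => ?_
  rw [abs_mul, abs_of_pos (𝓕.wt_pos i), mul_assoc]
  exact mul_le_mul_of_nonneg_left (abs_term_le 𝓕 I hle hpos i) (𝓕.wt_pos i).le

/-- `|μ| ≤ (Σ m_i) a (αE - 1)`. -/
theorem abs_mu_le (N : _root_.DecSh.NV E a) (hle : ∀ i, α (𝓕.piece i) ≤ αE)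
    (hpos : ∀ i, 1 ≤ α (𝓕.piece i)) :
    |𝓕.mu αE α N| ≤ (∑ i, 𝓕.wt i) * (a : ℚ) * ((αE : ℚ) - 1) := by
  obtain ⟨I, -, e⟩ := 𝓕.exists_gam_eq_mu αE α N
  exact e ▸ abs_gam_le 𝓕 I hle hpos

/-- Dropping steps of total weight `w` raises `μ` by at most `w a (αE - 1)`. -/
theorem mu_le_sub (𝓕₁ : _root_.DecSh.WFilt E) (N : _root_.DecSh.NV E a)
    (hle : ∀ i, α (𝓕.piece i) ≤ αE) (hpos : ∀ i, 1 ≤ α (𝓕.piece i))
    (e : Fin 𝓕₁.t → Fin 𝓕.t) (hp : ∀ j, 𝓕₁.piece j = 𝓕.piece (e j))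
    (hw : ∀ j, 𝓕₁.wt j = 𝓕.wt (e j)) :
    𝓕.mu αE α N ≤ 𝓕₁.mu αE α N +
      ((∑ i, 𝓕.wt i) - ∑ j, 𝓕₁.wt j) * (a : ℚ) * ((αE : ℚ) - 1) := by
  classical
  have he : Function.Injective e := fun x y h =>
    𝓕₁.piece_strictMono.injective (by rw [hp, hp, h])
  obtain ⟨I₁, hI₁, e₁⟩ := 𝓕₁.exists_gam_eq_mu αE α N
  let lift : Fin (𝓕₁.t + 1) → Fin (𝓕.t + 1) :=
    Fin.lastCases (Fin.last 𝓕.t) fun j => (e j).castSucc
  have hX : ∀ j, 𝓕.pieceX (lift j) = 𝓕₁.pieceX j := fun j => by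
    cases j using Fin.lastCases with
    | last => simp [lift]
    | cast l => simp [lift, hp]
  have hM : ∀ j, 𝓕.mulX αE α (lift j) = 𝓕₁.mulX αE α j := fun j => by
    cases j using Fin.lastCases with
    | last => simp [lift]
    | cast l => simp [lift, hp]
  have hadm : 𝓕.Adm N (lift ∘ I₁) := by
    simpa only [_root_.DecSh.WFilt.Adm, Function.comp_apply, hX] using hI₁
  refine (𝓕.mu_le_gam αE α N hadm).trans ?_
  rw [← e₁]
  let S := Finset.univ.image e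
  have hS : ∀ f : Fin 𝓕.t → ℚ, ∑ i, f i = ∑ j, f (e j) + ∑ i ∈ Finset.univ \ S, f i := fun f => by
    rw [← Finset.sum_sdiff (Finset.subset_univ S), add_comm]
    congr 1
    exact Finset.sum_image fun x _ y _ h => he h
  have hsum : (∑ i, 𝓕.wt i) - ∑ j, 𝓕₁.wt j = ∑ i ∈ Finset.univ \ S, 𝓕.wt i := by
    rw [hS, Finset.sum_congr rfl fun j _ => hw j]; ring
  rw [hsum]
  unfold _root_.DecSh.WFilt.gam
  rw [hS]
  refine add_le_add (le_of_eq (Finset.sum_congr rfl fun j _ => ?_)) ?_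
  · rw [← hw j, ← hp j]
    congr 2
    unfold _root_.DecSh.WFilt.nu
    simp only [Function.comp_apply, hM, hp]
  · rw [Finset.sum_mul, Finset.sum_mul]
    refine Finset.sum_le_sum fun i _ => ?_
    rw [mul_assoc]
    exact mul_le_mul_of_nonneg_left (le_trans (le_abs_self _) (abs_term_le 𝓕 _ hle hpos i))
      (𝓕.wt_pos i).le

/-- The one-step filtration has `μ ≥ - a (αE - α(P))`. -/
theorem single_mu_ge (P : Subobject E) (hP : P ≠ ⊤) (hP0 : ¬ IsZero (P : C))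
    (N : _root_.DecSh.NV E a) (hE : 0 ≤ αE) :
    -((a : ℚ) * ((αE : ℚ) - (α P : ℚ))) ≤
      (_root_.DecSh.WFilt.single P hP hP0).mu αE α N := by
  obtain ⟨I, -, e⟩ := (_root_.DecSh.WFilt.single P hP hP0).exists_gam_eq_mu αE α N
  rw [← e]
  unfold _root_.DecSh.WFilt.gam
  have hν : (((Finset.univ.filter fun j => (_root_.DecSh.WFilt.single P hP hP0).mulX αE α (I j) ≤
      α P).card : ℕ) : ℚ) ≤ a := by
    exact_mod_cast (Finset.card_filter_le _ _).trans_eq (by simp)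
  have hE' : (0 : ℚ) ≤ αE := by exact_mod_cast hE
  unfold _root_.DecSh.WFilt.nu
  refine le_of_le_of_eq ?_ (Fin.sum_univ_one _).symm
  refine le_trans (le_of_eq (show -((a : ℚ) * ((αE : ℚ) - (α P : ℚ))) =
    (a : ℚ) * (α P : ℚ) - (a : ℚ) * (αE : ℚ) by ring)) ?_
  refine le_of_le_of_eq ?_ (one_mul _).symm
  exact sub_le_sub_left (mul_le_mul_of_nonneg_right hν hE') _

end Numeric

end Groth.Agent.Lib.DecShLib.MuBound
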