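import Groth.Agent.Lib.TFOne.Decomp
import Groth.Agent.Lib.TFOne.ModBeta
import Groth.Agent.Lib.TFOne.EDeg
import Groth.Agent.Lib.Snapper.Vanish
import Groth.Agent.Lib.Snapper.Finite
import Groth.Agent.Lib.CurveBundle.Twist
import Groth.Agent.H97.CurveVanishing
import Groth.Prelude.Def_DecSh2

/-!
# The multiplicity `α(F) = χ(F ⊗ L) - χ(F)` on a curve with an ample module

It is additive, invariant under twisting by `L`, non-negative, and positive on nonzero torsion-free
sheaves.
-/

set_option autoImplicit false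
universe u

open CategoryTheory Limits AlgebraicGeometry Opposite TopologicalSpace

namespace Groth.Agent.Lib.DecShLib.Mult

open Groth.Agent.Lib TensorMod.Basic TensorMod.Gen

section Local

variable {X : Scheme.{u}} {A G : X.Modules} (s : Coh.structureModule X ⟶ A)

/-- The stalk of a twist, as the stalk. -/
theorem exists_stalkEquiv (hA : PicF.IsInvertible A) (n : ℕ) (x : X) :
    Nonempty ((CohB1.tensorMod G (CohB1.tensorPow A n)).presheaf.stalk x ≃ₗ[X.presheaf.stalk x]
      G.presheaf.stalk x) := by
  obtain ⟨e⟩ := Snapper.Twist.exists_stalkEquiv_twist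
    (TensorMod.Invertible.isInvertible_tensorPow hA n) G x
  exact ⟨(Modules.StalkModule.stalkLinearEquiv (comm G (CohB1.tensorPow A n)) x).trans e⟩

/-- Multiplication by `sⁿ` is surjective on stalks where `s` generates. -/
theorem surjective_stalk (hA : PicF.IsInvertible A) (hG : Coh.IsCoh G) (n : ℕ) {x : X}
    (hx : x ∈ CohB1.genLocus A s) :
    Function.Surjective
      (Modules.StalkModule.stalkMapₗ (H97.CurveVanishing.twHom (F := G) s n) x) := by
  intro v
  obtain ⟨V, hV, c, rfl⟩ := TopCat.Presheaf.exists_germ_eq _ v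
  obtain ⟨W, hW, hxW, hle⟩ := exists_isAffineOpen_mem_and_subset (X := X) (x := x)
    (U := V ⊓ CohB1.genLocus A s) ⟨hV, hx⟩
  obtain ⟨t, ht⟩ := H97.CurveVanishing.tw_surjective s hA hG hW (hle.trans inf_le_right) n
    ((CohB1.tensorMod G (CohB1.tensorPow A n)).presheaf.map (homOfLE (hle.trans inf_le_left)).op c)
  refine ⟨G.presheaf.germ W x hxW t, ?_⟩
  rw [Modules.StalkModule.stalkMapₗ_germ]
  refine (congrArg ((CohB1.tensorMod G (CohB1.tensorPow A n)).presheaf.germ W x hxW)
    ((H97.CurveVanishing.twHom_app s n W t).trans ht)).trans ?_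
  exact TopCat.Presheaf.germ_res_apply _ _ _ _ c

/-- Multiplication by `sⁿ` is bijective on stalks where `s` generates. -/
theorem bijective_stalk (hA : PicF.IsInvertible A) (hG : Coh.IsCoh G) (n : ℕ) {x : X}
    (hx : x ∈ CohB1.genLocus A s) :
    Function.Bijective
      (Modules.StalkModule.stalkMapₗ (H97.CurveVanishing.twHom (F := G) s n) x) := by
  obtain ⟨e⟩ := exists_stalkEquiv (G := G) hA n x
  have := RefHull.Reflexive.finite_stalk hG x
  have h := surjective_stalk s hA hG n hx
  refine ⟨?_, h⟩
  have h' : Function.Surjective (e.toLinearMap.comp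
      (Modules.StalkModule.stalkMapₗ (H97.CurveVanishing.twHom (F := G) s n) x)) :=
    e.surjective.comp h
  exact Function.Injective.of_comp (f := e) (OrzechProperty.injective_of_surjective_endomorphism _ h')

/-- Where `s` vanishes, its image is in `m` times the stalk. -/
theorem eq_zero_of_surjective (hA : PicF.IsInvertible A) (hG : Coh.IsCoh G) {x : X}
    (hx : x ∉ CohB1.genLocus A s)
    (h : Function.Surjective
      (Modules.StalkModule.stalkMapₗ (H97.CurveVanishing.twHom (F := G) s 1) x)) :
    Subsingleton (G.presheaf.stalk x) := by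
  obtain ⟨W, e, hxW, he⟩ := isInvertible_iff.1 hA x
  obtain ⟨a, ha⟩ := Ample.GenLocus.exists_coord he (Ample.GenLocus.sv s W)
  have hm : X.presheaf.germ W x hxW a ∈ IsLocalRing.maximalIdeal (X.presheaf.stalk x) := by
    refine (IsLocalRing.mem_maximalIdeal _).mpr fun hu => hx ?_
    have hb : x ∈ X.basicOpen a := (X.mem_basicOpen a x hxW).mpr hu
    rw [← Ample.GenLocus.genLocus_inf_eq he s ha] at hb
    exact hb.1
  let P := (CohB1.tensorMod G (CohB1.tensorPow A 1)).presheaf.stalk x
  have hle : (⊤ : Submodule (X.presheaf.stalk x) P) ≤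
      IsLocalRing.maximalIdeal (X.presheaf.stalk x) • (⊤ : Submodule (X.presheaf.stalk x) P) := by
    intro v _
    obtain ⟨w, rfl⟩ := h v
    obtain ⟨V, hV, t, rfl⟩ := TopCat.Presheaf.exists_germ_eq G.presheaf w
    rw [← TopCat.Presheaf.germ_res_apply G.presheaf (homOfLE (inf_le_left : V ⊓ W ≤ V)) x (show x ∈ V ⊓ W from ⟨hV, hxW⟩) t,
      Modules.StalkModule.stalkMapₗ_germ]
    set t' : Γ(G, V ⊓ W) := G.presheaf.map (homOfLE (inf_le_left : V ⊓ W ≤ V)).op t
    have hc : Ample.GenLocus.sv s (V ⊓ W) = TensorMod.Dual.rf (inf_le_right : V ⊓ W ≤ W) a •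
        TensorMod.Dual.rs A (inf_le_right : V ⊓ W ≤ W) e := by
      rw [← Ample.GenLocus.rs_sv s (inf_le_right : V ⊓ W ≤ W), ha, TensorMod.Dual.rs_smul]
    have h1 : (H97.CurveVanishing.twHom (F := G) s 1).app (V ⊓ W) t' =
        (TensorMod.Dual.rf (inf_le_right : V ⊓ W ≤ W) a •
          (SecTwist.tmul G (CohB1.tensorPow A 1) (V ⊓ W) t'
            (Ample.Extend.powSec (TensorMod.Dual.rs A (inf_le_right : V ⊓ W ≤ W) e) 1) :
              Γ(CohB1.tensorMod G (CohB1.tensorPow A 1), V ⊓ W))) := by
      rw [H97.CurveVanishing.twHom_app, Ample.Extend.twist_eq hc, pow_one]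
      rw [← Ample.GenLocus.pairM_id, ← Ample.GenLocus.pairM_id, TensorMod.Pullback.pairM_smul_left]
      rfl
    rw [h1]
    erw [Modules.StalkModule.germ_smul]
    refine Submodule.smul_mem_smul ?_ Submodule.mem_top
    erw [TopCat.Presheaf.germ_res_apply X.presheaf]
    exact hm
  obtain ⟨e'⟩ := exists_stalkEquiv (G := G) hA 1 x
  have := RefHull.Reflexive.finite_stalk hG x
  have hfin : Module.Finite (X.presheaf.stalk x) P := Module.Finite.equiv e'.symm
  have h0 := Submodule.eq_bot_of_le_smul_of_le_jacobson_bot _ _ hfin.fg_top hle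
    (IsLocalRing.maximalIdeal_le_jacobson ⊥)
  have : Subsingleton P := (Submodule.subsingleton_iff (X.presheaf.stalk x)).mp
    (subsingleton_of_bot_eq_top h0.symm)
  exact e'.symm.toEquiv.subsingleton

end Local

variable (k : Type u) [Field k] {X : Scheme.{u}} [X.Over (Spec (CommRingCat.of k))]
  [IsProper (X ↘ Spec (CommRingCat.of k))] {L : X.Modules}

theorem mult_congr {G G' : X.Modules} (e : G ≅ G') :
    DecSh.mult k X L G = DecSh.mult k X L G' := by
  rw [DecSh.mult, DecSh.mult, Curves.Euler.euler_eq_of_iso (k := k) e,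
    Curves.Euler.euler_eq_of_iso (k := k) (tensorIso e (Iso.refl L))]

theorem mult_add (hL : PicF.IsInvertible L) {S : ShortComplex X.Modules} (hS : S.ShortExact)
    (h₁ : Coh.IsCoh S.X₁) (h₂ : Coh.IsCoh S.X₂) (h₃ : Coh.IsCoh S.X₃) :
    DecSh.mult k X L S.X₂ = DecSh.mult k X L S.X₁ + DecSh.mult k X L S.X₃ := by
  have e1 := ParBun.Proper.euler_add (k := k) hS h₁ h₂ h₃
  have hS' := CurveBundle.Twist.shortExact hL hS
  have e2 := ParBun.Proper.euler_add (k := k) hS'
      (CurveBundle.Twist.isCoh hL h₁) (CurveBundle.Twist.isCoh hL h₂) (CurveBundle.Twist.isCoh hL h₃)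
  dsimp only at e2
  simp only [DecSh.mult]
  linarith

variable (hdim : topologicalKrullDim X ≤ 1)

include hdim

theorem mult_twist (hL : PicF.IsInvertible L) {G : X.Modules} (hG : Coh.IsCoh G) :
    DecSh.mult k X L (CohB1.tensorMod G L) = DecSh.mult k X L G := by
  have := Curves.GlobalSections.isNoetherian_of_proper k X
  have hd : topologicalKrullDim X ≤ (1 : ℕ) := by exact_mod_cast hdim
  have h := Snapper.Vanish.sym_eq_zero (k := k) (X := X) (d := 1) (Snapper.Finite.cohFinite k X) hd
    [L, L] (by simp [hL]) G hG (by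
      refine lt_of_le_of_lt ((topologicalKrullDim_subspace_le X _).trans hdim) ?_
      norm_num)
  simp only [Snapper.Vanish.sym_cons, show ∀ F, Snapper.Vanish.sym k X 1 [] F = FGA.eulerCharLE k X F 1 from
    fun _ => rfl] at h
  simp only [← Snapper.Chi.euler_eq_eulerCharLE hd] at h
  rw [Curves.Euler.euler_eq_of_iso (k := k) (comm L G),
    Curves.Euler.euler_eq_of_iso (k := k) (comm L (CohB1.tensorMod L G) ≪≫
      tensorIso (comm L G) (Iso.refl L))] at h
  simp only [DecSh.mult]
  linarith

/-- Twisting by a power of `L` adds a multiple of the multiplicity. -/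
theorem euler_twist_pow (hL : PicF.IsInvertible L) {G : X.Modules} (hG : Coh.IsCoh G) (n : ℕ) :
    DecSh.mult k X L (CohB1.tensorMod G (CohB1.tensorPow L n)) = DecSh.mult k X L G ∧
      Curv2.euler k X (CohB1.tensorMod G (CohB1.tensorPow L n)) =
        Curv2.euler k X G + n * DecSh.mult k X L G := by
  induction n with
  | zero =>
    exact ⟨mult_congr k (rightUnit G), by
      rw [Nat.cast_zero, zero_mul, add_zero]
      exact Curves.Euler.euler_eq_of_iso (k := k) (rightUnit G)⟩
  | succ n ih =>
    have hc := CurveBundle.Twist.isCoh (TensorMod.Invertible.isInvertible_tensorPow hL n) hG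
    let e : CohB1.tensorMod G (CohB1.tensorPow L (n + 1)) ≅
        CohB1.tensorMod (CohB1.tensorMod G (CohB1.tensorPow L n)) L :=
      (assoc G (CohB1.tensorPow L n) L).symm
    refine ⟨(mult_congr k e).trans ((mult_twist k hdim hL hc).trans ih.1), ?_⟩
    rw [Curves.Euler.euler_eq_of_iso (k := k) e]
    have h := ih.1
    rw [DecSh.mult] at h
    push_cast
    linarith [ih.2]

/-- Powers of powers. -/
theorem euler_twist_pow_pow (hL : PicF.IsInvertible L) (N : ℕ) (j : ℕ) :
    ∀ {G : X.Modules}, Coh.IsCoh G →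
      Curv2.euler k X (CohB1.tensorMod G (CohB1.tensorPow (CohB1.tensorPow L N) j)) =
        Curv2.euler k X G + (j * N : ℕ) * DecSh.mult k X L G ∧
      DecSh.mult k X L (CohB1.tensorMod G (CohB1.tensorPow (CohB1.tensorPow L N) j)) =
        DecSh.mult k X L G := by
  induction j with
  | zero =>
    intro G hG
    exact ⟨by
      rw [Nat.zero_mul, Nat.cast_zero, zero_mul, add_zero]
      exact Curves.Euler.euler_eq_of_iso (k := k) (rightUnit G), mult_congr k (rightUnit G)⟩
  | succ j ih =>
    intro G hG
    have hA := TensorMod.Invertible.isInvertible_tensorPow hL N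
    have hc := CurveBundle.Twist.isCoh (TensorMod.Invertible.isInvertible_tensorPow hA j) hG
    let e : CohB1.tensorMod G (CohB1.tensorPow (CohB1.tensorPow L N) (j + 1)) ≅
        CohB1.tensorMod (CohB1.tensorMod G (CohB1.tensorPow (CohB1.tensorPow L N) j))
          (CohB1.tensorPow L N) :=
      (assoc G _ _).symm
    obtain ⟨h1, h2⟩ := euler_twist_pow k hdim hL hc N
    refine ⟨?_, (mult_congr k e).trans (h1.trans (ih hG).2)⟩
    rw [Curves.Euler.euler_eq_of_iso (k := k) e, h2, (ih hG).1, (ih hG).2]
    push_cast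
    ring

/-- Maps bijective at generic points are onto on `H¹`. -/
theorem h1_surjective {P Q : X.Modules} (φ : P ⟶ Q)
    (h : ∀ η ∈ genericPoints X, Function.Bijective (Modules.StalkModule.stalkMapₗ φ η)) :
    Function.Surjective (Curves.LES.mapK k φ 1) := by
  have := Curves.GlobalSections.noetherianSpace_of_proper k X
  let ι := Abelian.image.ι φ
  let p := Abelian.factorThruImage φ
  have hS1 : (ShortComplex.mk (kernel.ι p) p (kernel.condition p)).ShortExact :=
    { exact := ShortComplex.exact_kernel p }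
  have hS2 : (ShortComplex.mk ι (cokernel.π ι) (cokernel.condition ι)).ShortExact :=
    { exact := ShortComplex.exact_cokernel ι }
  have hfac : p ≫ ι = φ := Abelian.image.fac φ
  have hK : Subsingleton (Coh.HH X (kernel p) 2) :=
    Curves.Positivity.subsingleton_HH_of_two_le hdim _ 2 le_rfl
  have hT : Curves.Positivity.IsTorsion (cokernel ι) := fun η hη => by
    refine subsingleton_of_forall_eq 0 fun v => ?_
    obtain ⟨w, rfl⟩ := (Modules.StalkModule.epi_iff_stalkMapₗ_surjective (cokernel.π ι)).mp
      inferInstance η v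
    obtain ⟨u, rfl⟩ : ∃ u, Modules.StalkModule.stalkMapₗ ι η u = w := by
      obtain ⟨u, hu⟩ := (h η hη).2 w
      refine ⟨Modules.StalkModule.stalkMapₗ p η u, ?_⟩
      rw [← LinearMap.comp_apply, ← Modules.StalkModule.stalkMapₗ_comp, hfac, hu]
    rw [← LinearMap.comp_apply, ← Modules.StalkModule.stalkMapₗ_comp, cokernel.condition,
      Modules.StalkModule.stalkMapₗ_zero, LinearMap.zero_apply]
  rw [← hfac, Curves.LES.mapK_comp, LinearMap.coe_comp]
  refine Function.Surjective.comp (fun y => ?_) fun y => ?_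
  · exact (Curves.LES.exactK₂ k hS2 1 y).mp
      (@Subsingleton.elim _ (hT.subsingleton_HH_succ hdim 0) _ _)
  · exact (Curves.LES.exactK₃ k hS1 1 2 rfl y).mp (Subsingleton.elim _ _)

/-- The multiplicity is non-negative. -/
theorem mult_nonneg (hL : CohB1.IsAmple L) {G : X.Modules} (hG : Coh.IsCoh G) :
    0 ≤ DecSh.mult k X L G := by
  have := Curves.GlobalSections.isNoetherian_of_proper k X
  have hLi := (Ample.Pow.isAmple_iff.1 hL).1
  have hfin : (genericPoints X).Finite := by
    refine Set.Finite.of_finite_image (f := fun x : X => closure ({x} : Set X))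
      (NoetherianSpace.finite_irreducibleComponents.subset ?_) fun a _ b _ h => ?_
    · rintro _ ⟨x, hx, rfl⟩; exact hx
    · exact (Inseparable.eq ((inseparable_iff_closure_eq).mpr h))
  obtain ⟨N, hN, s, hs, -, -⟩ := Ample.Basis.exists_locus_of_finite hL _ hfin ⊤ (fun _ _ => trivial)
  have hA := TensorMod.Invertible.isInvertible_tensorPow hLi N
  have hfinH := Snapper.Finite.cohFinite k X
  by_contra hlt
  rw [not_le] at hlt
  set j := (Curv2.euler k X G + Curves.Euler.hdim k X G 1).toNat + 1
  let T := CohB1.tensorMod G (CohB1.tensorPow (CohB1.tensorPow L N) j)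
  have hc : Coh.IsCoh T :=
    CurveBundle.Twist.isCoh (TensorMod.Invertible.isInvertible_tensorPow hA j) hG
  have hb : Curves.Euler.hdim k X T 1 ≤ Curves.Euler.hdim k X G 1 := by
    have := hfinH G hG 1
    exact LinearMap.finrank_le_finrank_of_surjective (h1_surjective k hdim
      (H97.CurveVanishing.twHom (F := G) s j) fun η hη => bijective_stalk s hA hG j (hs hη))
  have he := Curves.Euler.euler_eq (k := k) (F := T)
    (Curves.Positivity.subsingleton_HH_of_two_le hdim _)
  rw [(euler_twist_pow_pow k hdim hLi N j hG).1] at he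
  have h1 : (j : ℤ) ≤ (j * N : ℕ) := by exact_mod_cast Nat.le_mul_of_pos_right j hN
  have h2 : (j * N : ℕ) * DecSh.mult k X L G ≤ -(j : ℤ) := by
    have := mul_le_mul_of_nonneg_left (show DecSh.mult k X L G ≤ -1 by omega)
      (Int.natCast_nonneg (j * N))
    linarith
  have h3 := Int.self_le_toNat (Curv2.euler k X G + Curves.Euler.hdim k X G 1)
  simp only [j, Nat.cast_add, Nat.cast_one] at h1 h2 he
  omega

/-- Subsheaves have smaller multiplicity. -/
theorem mult_le_of_mono (hL : CohB1.IsAmple L) {F G : X.Modules} (i : F ⟶ G) [Mono i]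
    (hF : Coh.IsCoh F) (hG : Coh.IsCoh G) : DecSh.mult k X L F ≤ DecSh.mult k X L G := by
  have hc := CohBasics.Closure.isCoh_cokernel i hF.1 hG
  have h := mult_add k (S := ShortComplex.mk i (cokernel.π i) (cokernel.condition i))
    (Ample.Pow.isAmple_iff.1 hL).1 { exact := ShortComplex.exact_cokernel i } hF hG hc
  linarith [mult_nonneg k hdim hL hc]

/-- Nonzero torsion-free sheaves have positive multiplicity. -/
theorem mult_pos [IsReduced X] (hpure : ∀ x : X, ¬ IsOpen ({x} : Set X)) (hL : CohB1.IsAmple L)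
    {G : X.Modules} (hG : Coh.IsCoh G) (hT : TorSh.IsTorsionFree G) (h0 : ¬ IsZero G) :
    0 < DecSh.mult k X L G := by
  classical
  have := Curves.GlobalSections.isNoetherian_of_proper k X
  have := hG.1
  have := hG.2
  have hLi := (Ample.Pow.isAmple_iff.1 hL).1
  have hcl : ∀ η ∈ genericPoints X, ∃ x, η ⤳ x ∧ x ≠ η ∧ IsClosed ({x} : Set X) := by
    intro η hη
    obtain ⟨x, hx, hxc⟩ := IsClosed.exists_closed_singleton
      (isClosed_closure (s := ({η} : Set X))) ⟨η, subset_closure rfl⟩
    refine ⟨x, specializes_iff_mem_closure.mpr hx, fun h => hpure η ?_, hxc⟩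
    subst h
    have hC : closure ({x} : Set X) = {x} := hxc.closure_eq
    have hfinC := NoetherianSpace.finite_irreducibleComponents (α := X)
    have hrest : IsClosed (⋃₀ (irreducibleComponents (X : Type u) \ {closure ({x} : Set X)})) := by
      rw [Set.sUnion_eq_biUnion]
      exact (hfinC.subset Set.sdiff_subset).isClosed_biUnion fun C hC =>
        isClosed_of_mem_irreducibleComponents C hC.1
    suffices ({x} : Set X) = (⋃₀ (irreducibleComponents (X : Type u) \ {closure ({x} : Set X)}))ᶜ by
      rw [this]; exact hrest.isOpen_compl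
    refine subset_antisymm (fun z hz => ?_) fun z hz => ?_
    · rintro ⟨C, ⟨hC1, hC2⟩, hzC⟩
      rw [Set.mem_singleton_iff] at hz
      subst hz
      exact hC2 (Set.mem_singleton_iff.mpr (subset_antisymm (hη.2 hC1.1
        (closure_minimal (Set.singleton_subset_iff.mpr hzC)
          (isClosed_of_mem_irreducibleComponents C hC1)))
        (closure_minimal (Set.singleton_subset_iff.mpr hzC)
          (isClosed_of_mem_irreducibleComponents C hC1))))
    · by_contra hne
      refine hz ⟨irreducibleComponent z, ⟨irreducibleComponent_mem_irreducibleComponents z, ?_⟩,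
        mem_irreducibleComponent⟩
      intro h
      rw [Set.mem_singleton_iff, hC] at h
      exact hne (h ▸ mem_irreducibleComponent)
  choose c hc hne hcc using hcl
  have hfin : (genericPoints X).Finite := by
    refine Set.Finite.of_finite_image (f := fun x : X => closure ({x} : Set X))
      (NoetherianSpace.finite_irreducibleComponents.subset ?_) fun a _ b _ h => ?_
    · rintro _ ⟨x, hx, rfl⟩; exact hx
    · exact (Inseparable.eq ((inseparable_iff_closure_eq).mpr h))
  have := hfin.to_subtype
  let S : Set X := Set.range fun η : genericPoints X => c η.1 η.2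
  have hS : IsClosed S := by
    rw [show S = ⋃ η : genericPoints X, {c η.1 η.2} by ext z; simp [S, eq_comm]]
    exact isClosed_iUnion_of_finite fun η => hcc η.1 η.2
  obtain ⟨N, hN, s, hs, hsU, -⟩ := Ample.Basis.exists_locus_of_finite hL _ hfin
    ⟨Sᶜ, hS.isOpen_compl⟩ (fun η hη => by
      rintro ⟨η', he⟩
      change c η'.1 η'.2 = η at he
      have h1 : η'.1 ⤳ η := he ▸ hc η'.1 η'.2
      exact hne η'.1 η'.2 (he.trans (Flat55.GenericPoints.eq_of_specializes hη h1).symm))
  have hA := TensorMod.Invertible.isInvertible_tensorPow hLi N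
  let φ := H97.CurveVanishing.twHom (F := G) s 1
  have hgen : ∀ η ∈ genericPoints X, Function.Bijective (Modules.StalkModule.stalkMapₗ φ η) :=
    fun η hη => bijective_stalk s hA hG 1 (hs hη)
  have : Mono φ := TFOne.Generic.mono_of_generic hT φ fun η hη => (hgen η hη).1
  have hc1 := CurveBundle.Twist.isCoh (TensorMod.Invertible.isInvertible_tensorPow hA 1) hG
  have hQ := CohBasics.Closure.isCoh_cokernel φ hG.1 hc1
  have hQ0 : ∀ η ∈ genericPoints X, Subsingleton ((cokernel φ).presheaf.stalk η) := fun η hη => by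
    refine subsingleton_of_forall_eq 0 fun v => ?_
    obtain ⟨w, rfl⟩ := (Modules.StalkModule.epi_iff_stalkMapₗ_surjective (cokernel.π φ)).mp
      inferInstance η v
    obtain ⟨u, rfl⟩ := (hgen η hη).2 w
    rw [← LinearMap.comp_apply, ← Modules.StalkModule.stalkMapₗ_comp, cokernel.condition,
      Modules.StalkModule.stalkMapₗ_zero, LinearMap.zero_apply]
  have he := ParBun.Proper.euler_add (k := k)
    (S := ShortComplex.mk φ (cokernel.π φ) (cokernel.condition φ))
    { exact := ShortComplex.exact_cokernel φ } hG hc1 hQ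
  dsimp only at he
  rw [(euler_twist_pow_pow k hdim hLi N 1 hG).1, Nat.one_mul] at he
  refine lt_of_le_of_ne (mult_nonneg k hdim hL hG) fun h => ?_
  rw [← h, mul_zero, add_zero] at he
  have hz := TFOne.ModBeta.isZero_of_euler (k := k) hdim hQ hQ0 (by linarith)
  have hepi : Epi φ := Preadditive.epi_of_cokernel_zero (hz.eq_of_tgt _ _)
  obtain ⟨η, hη, hηG⟩ : ∃ η ∈ genericPoints X, ¬ Subsingleton (G.presheaf.stalk η) := by
    by_contra hcon
    simp only [not_exists, not_and, not_not] at hcon
    have hempty := TFOne.Decomp.support_subset (T := ∅) hT isClosed_empty fun η hη _ => hcon η hη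
    exact h0 (Modules.Stalk.isZero_iff_stalk_subsingleton.mpr fun x => by
      by_contra hx; exact hempty hx)
  have hmem : c η hη ∈ CohB1.support G :=
    (hc η hη).mem_closed (Modules.Support.isClosed_support G) hηG
  exact hmem (eq_zero_of_surjective s hA hG (fun hx => hsU hx ⟨⟨η, hη⟩, rfl⟩)
    ((Modules.StalkModule.epi_iff_stalkMapₗ_surjective φ).mp hepi _))

end Groth.Agent.Lib.DecShLib.Mult
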