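import Groth.Agent.Lib.DecSh.Sectional
import Groth.Agent.Lib.DecSh.GG

/-!
# Large twists of parabolic semistable tensor fields
-/

set_option autoImplicit false
universe u

open CategoryTheory Limits AlgebraicGeometry

namespace Groth.Agent.Lib.DecShLib.Par

open Groth.Agent.Lib Sec

variable (k : Type u) [Field k] {X : Scheme.{u}} [X.Over (Spec (CommRingCat.of k))]
  [IsProper (X ↘ Spec (CommRingCat.of k))] [Smooth (X ↘ Spec (CommRingCat.of k))]
  (hdim : topologicalKrullDim X ≤ 1) (hpure : ∀ x : X, ¬ IsOpen ({x} : Set X))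
  {L : X.Modules} (hL : CohB1.IsAmple L)

include hdim hpure hL

/-- Parabolic semistability bounds the subsheaves of a bundle uniformly. -/
theorem ub_of_par {r a b ν : ℕ} {E D : X.Modules} (hE : FlatMod.IsFinLocFreeOfRank r E)
    (I : Fin ν → X.IdealSheafData) (K : ∀ i, Submodule k (ParSh.fibD X (I i) E))
    (hK : ∀ i, Module.finrank k (ParSh.fibD X (I i) E ⧸ K i) = r)
    (κ : Fin ν → ℚ) (hκ : ∀ i, 0 < κ i ∧ κ i < 1) (T : DecSh.TF E a b D) {δ : ℚ} (hδ : 0 < δ)
    (hT : T.IsParSemistable k I K κ L δ) :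
    UB k L E (|Curv2.euler k X E| + ⌈(a : ℚ) * δ + (r : ℚ) * (ν : ℚ)⌉ + 1) := by
  intro H i hi hH hp
  have hc : (0 : ℤ) ≤ ⌈(a : ℚ) * δ + (r : ℚ) * (ν : ℚ)⌉ := Int.ceil_nonneg (by positivity)
  have hEc := CurveBundle.Coherent.isCoh (TensorMod.LocFree.of_rank hE)
  have hle := Mult.mult_le_of_mono k hdim hL i hH hEc
  by_cases hi' : IsIso i
  · rw [Curves.Euler.euler_eq_of_iso (k := k) (asIso i)]
    have he := le_abs_self (Curv2.euler k X E)
    have h1 := mul_le_mul_of_nonneg_left (show (1 : ℤ) ≤ DecSh.mult k X L H by omega)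
      (show 0 ≤ |Curv2.euler k X E| + ⌈(a : ℚ) * δ + (r : ℚ) * (ν : ℚ)⌉ + 1 by positivity)
    linarith
  have h0 : ¬ IsZero H := fun hz => by
    have := Curves.Euler.euler_eq_of_iso (k := k)
      (hz.iso (Functor.map_isZero (TensorMod.Basic.tensorBy L) hz))
    change Curv2.euler k X H = Curv2.euler k X (CohB1.tensorMod H L) at this
    rw [DecSh.mult, ← this, sub_self] at hp
    exact lt_irrefl _ hp
  have h := Apps.par_slope_le hdim hpure hL hE I K hK κ hκ T hδ hT i hH h0 hi'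
  have hQ : (1 : ℚ) ≤ DecSh.mult k X L H := by exact_mod_cast hp
  have hA : (1 : ℚ) ≤ DecSh.mult k X L E := by
    exact_mod_cast (show (1 : ℤ) ≤ DecSh.mult k X L E by omega)
  have h1 : (Curv2.euler k X E : ℚ) / (DecSh.mult k X L E : ℚ) ≤ |(Curv2.euler k X E : ℚ)| := by
    rw [div_le_iff₀ (by linarith)]
    exact (le_abs_self _).trans (le_mul_of_one_le_right (abs_nonneg _) hA)
  have h2 : (Curv2.euler k X H : ℚ) / (DecSh.mult k X L H : ℚ) <
      |(Curv2.euler k X E : ℚ)| + (⌈(a : ℚ) * δ + (r : ℚ) * (ν : ℚ)⌉ : ℚ) + 1 := by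
    linarith [Int.le_ceil ((a : ℚ) * δ + (r : ℚ) * (ν : ℚ))]
  rw [div_lt_iff₀ (by linarith)] at h2
  exact_mod_cast h2

/-- The parabolic sectional inequality at a large twist. -/
theorem exists_parSectional {ν : ℕ} (I : Fin ν → X.IdealSheafData) (κ : Fin ν → ℚ)
    (hκ : ∀ i, 0 < κ i ∧ κ i < 1) (δ : ℚ) (hδ : 0 < δ) (r a b : ℕ) (d : ℤ) :
    ∃ n₁ : ℕ, ∀ n : ℕ, n₁ < n → ∀ (E : X.Modules), FlatMod.IsFinLocFreeOfRank r E →
      Curv2.deg k X E r = d → ∀ (K : ∀ i, Submodule k (ParSh.fibD X (I i) E)),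
        (∀ i, Module.finrank k (ParSh.fibD X (I i) E ⧸ K i) = r) →
        ∀ (D : X.Modules) (T : DecSh.TF E a b D), T.IsParSemistable k I K κ L δ →
          ∀ 𝓕 : DecSh.WFilt E, (∀ i, Coh.IsCoh ((𝓕.piece i : Subobject E) : X.Modules)) →
            (∑ i, 𝓕.wt i *
              ((DecSh.mult k X L E : ℚ) *
                  ((Module.finrank k (Coh.HH X (ShStab.twist X L ((𝓕.piece i : Subobject E) : X.Modules) n) 0) : ℚ) -
                    ((Curv2.euler k X ((𝓕.piece i : Subobject E) : X.Modules) : ℚ) -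
                      DecSh.parChi k I K κ (𝓕.piece i).arrow)) -
                (DecSh.mult k X L ((𝓕.piece i : Subobject E) : X.Modules) : ℚ) *
                  ((Curv2.euler k X (ShStab.twist X L E n) : ℚ) -
                    ((Curv2.euler k X E : ℚ) - DecSh.parChi k I K κ (𝟙 E))))) +
              δ * T.mu k L 𝓕 ≤ 0 := by
  have := Curves.GlobalSections.isNoetherian_of_proper k X
  have : IsReduced X := GrpSch.isReduced_of_smooth_field (X ↘ Spec (CommRingCat.of k))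
  set e : ℤ := d + r * Curv2.euler k X (Coh.structureModule X) with he
  set α : ℤ := r * DecSh.mult k X L (Coh.structureModule X) with hαd
  set ca := ⌈(a : ℚ) * δ + (r : ℚ) * (ν : ℚ)⌉ with hca
  have hcaq : (a : ℚ) * δ + (r : ℚ) * (ν : ℚ) ≤ (ca : ℚ) := Int.le_ceil _
  obtain ⟨B, N₁, hB, hd⟩ := Bound.exists_dich k hdim hpure hL (|e| + ca + 1) α
  refine ⟨N₁ + (B + |e| + ca + 1).toNat, fun n hn E hE hdeg K hK D T hT 𝓕 hcoh => ?_⟩
  have hn₁ : N₁ ≤ n := by omega
  have hnq : (B : ℚ) + |(e : ℚ)| + (ca : ℚ) + 1 ≤ (n : ℚ) := by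
    exact_mod_cast (show B + |e| + ca + 1 ≤ (n : ℤ) by omega)
  have hEc := CurveBundle.Coherent.isCoh (TensorMod.LocFree.of_rank hE)
  have hEt := CurveBundle.Coherent.isTorsionFree (TensorMod.LocFree.of_rank hE)
  have hα : DecSh.mult k X L E = α := Bound.mult_bundle k hdim hpure hL hE
  have heE : Curv2.euler k X E = e := by rw [he, ← hdeg, Curv2.deg]; ring
  have hU := heE ▸ ub_of_par k hdim hpure hL hE I K hK κ hκ T hδ hT
  have hnt := Sectional.nt_of_tf k hdim hpure hL hEt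
  obtain ⟨hle, hpos⟩ := Apps.piece_bounds (k := k) hdim hpure hL hEc hEt 𝓕 hcoh
  have hEn : (Curv2.euler k X (ShStab.twist X L E n) : ℚ) = (e : ℚ) + (n : ℚ) * (α : ℚ) := by
    rw [(Bound.euler_twist k hdim hL hEc n).1, hα, heE]
    push_cast
    ring
  have hα1 : (1 : ℚ) ≤ α := by
    exact_mod_cast hα ▸ (hpos ⟨0, 𝓕.t_pos⟩).trans (hle ⟨0, 𝓕.t_pos⟩)
  have hr : 0 < r := by
    by_contra h
    obtain rfl : r = 0 := by omega
    rw [hαd] at hα1
    norm_num at hα1
  have hlow : (e : ℚ) - (r : ℚ) * (ν : ℚ) ≤ DecSh.parChi k I K κ (𝟙 E) := by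
    rw [← heE]
    unfold DecSh.parChi
    refine sub_le_sub_left (le_trans (Finset.sum_le_sum (g := fun _ => (r : ℚ)) fun i _ => ?_) ?_) _
    · have : FiniteDimensional k (ParSh.fibD X (I i) E ⧸ K i) :=
        Module.finite_of_finrank_pos (by rw [hK i]; exact hr)
      refine le_trans (mul_le_of_le_one_left (Nat.cast_nonneg _) (hκ i).2.le) ?_
      exact_mod_cast (Submodule.finrank_le _).trans_eq (hK i)
    · rw [Finset.sum_const, Finset.card_univ, Fintype.card_fin, nsmul_eq_mul, mul_comm]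
  refine (Bound.sum_add_mu_le hδ hT 𝓕 hcoh hle hpos _
    (fun i => Subsingleton (Coh.HH X (ShStab.twist X L ((𝓕.piece i : Subobject E) : X.Modules) n) 1))
    ((α : ℚ) * ((n : ℚ) - (B : ℚ) - |(e : ℚ)| - (r : ℚ) * (ν : ℚ))) ?_ ?_ ?_).1
  · rw [hα]
    have h1 : δ * ((a : ℚ) * ((α : ℚ) - 1)) ≤ (α : ℚ) * ((a : ℚ) * δ) := by
      have : 0 ≤ δ * (a : ℚ) := by positivity
      linarith
    refine h1.trans_lt (mul_lt_mul_of_pos_left ?_ (by linarith))
    linarith
  · intro i hi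
    have h := congrArg (Int.cast : ℤ → ℚ) (Bound.h0_eq k hdim hL (hcoh i) n hi)
    push_cast at h
    rw [h, hEn, hα, heE]
    ring
  · intro i hi
    have h := (hd n hn₁ _ (hcoh i) (nt_of_mono k (𝓕.piece i).arrow hnt)
      (ub_of_mono k (𝓕.piece i).arrow hU) (hα ▸ hle i)).resolve_left hi
    have h' : (Module.finrank k (Coh.HH X (ShStab.twist X L ((𝓕.piece i : Subobject E) : X.Modules) n) 0) : ℚ) ≤
        ((DecSh.mult k X L ((𝓕.piece i : Subobject E) : X.Modules) : ℚ) - 1) * (n : ℚ) + (B : ℚ) := by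
      exact_mod_cast h
    have hup : DecSh.parChi k I K κ (𝓕.piece i).arrow ≤
        (Curv2.euler k X ((𝓕.piece i : Subobject E) : X.Modules) : ℚ) := by
      unfold DecSh.parChi
      exact sub_le_self _ (Finset.sum_nonneg fun j _ => mul_nonneg (hκ j).1.le (Nat.cast_nonneg _))
    rw [hEn, hα, heE]
    set F0 : ℚ := (Module.finrank k (Coh.HH X (ShStab.twist X L ((𝓕.piece i : Subobject E) : X.Modules) n) 0) : ℚ)
    set q : ℚ := (DecSh.mult k X L ((𝓕.piece i : Subobject E) : X.Modules) : ℚ)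
    set p := DecSh.parChi k I K κ (𝟙 E)
    have hq0 : (0 : ℚ) ≤ q := by
      simp only [q]; exact_mod_cast le_trans zero_le_one (hpos i)
    have hqA : q ≤ (α : ℚ) := by simp only [q]; exact_mod_cast hα ▸ hle i
    have h1 := mul_le_mul_of_nonneg_left h' (show (0 : ℚ) ≤ α by linarith)
    have h2 := mul_le_mul_of_nonneg_left hup (show (0 : ℚ) ≤ α by linarith)
    have h3 : q * -p ≤ (α : ℚ) * (|(e : ℚ)| + (r : ℚ) * (ν : ℚ)) := by
      refine (mul_le_mul_of_nonneg_left (?_ : -p ≤ |(e : ℚ)| + (r : ℚ) * (ν : ℚ)) hq0).trans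
        (mul_le_mul_of_nonneg_right hqA (by positivity))
      linarith [neg_le_abs (e : ℚ)]
    linarith

/-- Boundedness of the parabolic semistable family. -/
theorem exists_bounded [IsAlgClosed k] {ν : ℕ} (I : Fin ν → X.IdealSheafData) (κ : Fin ν → ℚ)
    (hκ : ∀ i, 0 < κ i ∧ κ i < 1) (δ : ℚ) (hδ : 0 < δ) (r a b : ℕ) (d : ℤ) :
    ∃ n₀ : ℕ, ∀ n : ℕ, n₀ ≤ n → ∀ E : X.Modules, FlatMod.IsFinLocFreeOfRank r E →
      Curv2.deg k X E r = d → ∀ (K : ∀ i, Submodule k (ParSh.fibD X (I i) E)),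
        (∀ i, Module.finrank k (ParSh.fibD X (I i) E ⧸ K i) = r) →
        ∀ (D : X.Modules) (T : DecSh.TF E a b D), T.IsParSemistable k I K κ L δ →
      Subsingleton (Coh.HH X (CohB1.tensorMod E (CohB1.tensorPow L n)) 1) ∧
        Curv2.IsGloballyGenerated (CohB1.tensorMod E (CohB1.tensorPow L n)) := by
  have := Curves.GlobalSections.isNoetherian_of_proper k X
  have : IsReduced X := GrpSch.isReduced_of_smooth_field (X ↘ Spec (CommRingCat.of k))
  have hLi := (Ample.Pow.isAmple_iff.1 hL).1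
  set e : ℤ := d + r * Curv2.euler k X (Coh.structureModule X) with he
  set α : ℤ := r * DecSh.mult k X L (Coh.structureModule X)
  obtain ⟨B, N₁, hB, hd⟩ := Bound.exists_dich k hdim hpure hL
    (|e| + ⌈(a : ℚ) * δ + (r : ℚ) * (ν : ℚ)⌉ + 1) α
  refine ⟨N₁ + (B + |e| + r + 1).toNat, fun n hn E hE hdeg K hK D T hT => ?_⟩
  have hn₁ : N₁ ≤ n := by omega
  have hnb : B + |e| + r + 1 ≤ (n : ℤ) := by omega
  have hEc := CurveBundle.Coherent.isCoh (TensorMod.LocFree.of_rank hE)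
  have hα : DecSh.mult k X L E = α := Bound.mult_bundle k hdim hpure hL hE
  have heE : Curv2.euler k X E = e := by rw [he, ← hdeg, Curv2.deg]; ring
  have hU := heE ▸ ub_of_par k hdim hpure hL hE I K hK κ hκ T hδ hT
  have hnt := Sectional.nt_of_tf k hdim hpure hL
    (CurveBundle.Coherent.isTorsionFree (TensorMod.LocFree.of_rank hE))
  have hv : ∀ (G : X.Modules) (j : G ⟶ E), Mono j → Coh.IsCoh G → DecSh.mult k X L G = α →
      e - r ≤ Curv2.euler k X G → Subsingleton (Coh.HH X (ShStab.twist X L G n) 1) :=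
    fun G j _ hG hGα hGe => by
      refine Sectional.h1_of_dich k hdim hpure hL hG n
        (hd n hn₁ G hG (nt_of_mono k j hnt) (ub_of_mono k j hU) hGα.le) ?_
      have := neg_abs_le e
      omega
  refine ⟨hv E (𝟙 E) inferInstance hEc hα (by omega), ?_⟩
  let A := CohB1.tensorPow L n
  have hA := TensorMod.Invertible.isInvertible_tensorPow hLi n
  have hA' : PicF.IsInvertible (TensorMod.Dual.dual A) := TensorMod.Invertible.isInvertible_dual hA
  have hF : FlatMod.IsFinLocFreeOfRank r (CohB1.tensorMod E A) := by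
    have := TensorMod.LocFree.rank_tensorMod hE (TensorMod.LocFree.of_isInvertible hA)
    rwa [Nat.mul_one] at this
  refine GG.gg_of_kernels k (TensorMod.LocFree.of_rank hF) fun x hx => ?_
  obtain ⟨hK1, hK2, hK3⟩ := GG.kernel_data k hdim hpure hL hF hx
  set Kx := kernel (GG.res hx (CohB1.tensorMod E A))
  have hc := CurveBundle.Twist.isCoh hA' hK1
  have := CurveBundle.Twist.isEquivalence hA'
  let u : CohB1.tensorMod (CohB1.tensorMod E A) (TensorMod.Dual.dual A) ≅ E :=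
    TensorMod.Basic.assoc E A (TensorMod.Dual.dual A) ≪≫ TensorMod.Basic.tensorIso (Iso.refl _)
      (TensorMod.Invertible.tensorDualIso hA) ≪≫ TensorMod.Basic.rightUnit E
  let v : CohB1.tensorMod (CohB1.tensorMod Kx (TensorMod.Dual.dual A)) A ≅ Kx :=
    TensorMod.Basic.assoc Kx (TensorMod.Dual.dual A) A ≪≫ TensorMod.Basic.tensorIso (Iso.refl _)
      (TensorMod.Basic.comm (TensorMod.Dual.dual A) A ≪≫
        TensorMod.Invertible.tensorDualIso hA) ≪≫ TensorMod.Basic.rightUnit Kx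
  let j : Kx ⟶ CohB1.tensorMod E A := kernel.ι (GG.res hx (CohB1.tensorMod E A))
  have : Mono j := inferInstanceAs (Mono (kernel.ι (GG.res hx (CohB1.tensorMod E A))))
  have : Mono (TensorMod.Basic.tmap j (𝟙 (TensorMod.Dual.dual A))) :=
    inferInstanceAs (Mono ((TensorMod.Basic.tensorBy (TensorMod.Dual.dual A)).map j))
  obtain ⟨e1, e2⟩ := Mult.euler_twist_pow k hdim hLi hc n
  rw [Mult.mult_congr k v, hK2, (Mult.euler_twist_pow k hdim hLi hEc n).1, hα] at e1
  rw [Curves.Euler.euler_eq_of_iso (k := k) v, hK3, (Mult.euler_twist_pow k hdim hLi hEc n).2,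
    hα, heE, ← e1] at e2
  have h := hv (CohB1.tensorMod Kx (TensorMod.Dual.dual A))
    (TensorMod.Basic.tmap j (𝟙 (TensorMod.Dual.dual A)) ≫ u.hom) (mono_comp _ _) hc e1.symm (by linarith)
  exact H34.HOne.h1_of_iso v h

end Groth.Agent.Lib.DecShLib.Par
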