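import Groth.Agent.Lib.DecSh.Mult
import Groth.Agent.Lib.CurveBundle.Saturation
import Groth.Agent.Lib.TFOne.Push
import Groth.Agent.Lib.Cyc.FP.Stalk
import Groth.Agent.Lib.Cyc.Dev.Scheme
import Groth.Agent.Lib.Ample.Pullback
import Groth.Agent.H97.CurveAmple
import Groth.Agent.Lib.CurveBundle.Rank

/-!
# Sections and `H¹` of sheaves on a reduced curve, bounded through `χ` and the multiplicity

If every coherent subsheaf `F` of a torsion-free `G` has `χ(F) < s α(F)` then `h⁰(G)` is at most
`(s + const) α(G)`; if every quotient `Q` has `χ(Q) ≥ c α(Q)` with `c` large then `H¹(G) = 0`.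
-/

set_option autoImplicit false
universe u

open CategoryTheory Limits AlgebraicGeometry Opposite TopologicalSpace

namespace Groth.Agent.Lib.DecShLib.Sec

open Groth.Agent.Lib TensorMod.Basic TensorMod.Gen TensorMod.Colimit TensorMod.Dual

variable (k : Type u) [Field k] {X : Scheme.{u}} [X.Over (Spec (CommRingCat.of k))]
  [IsProper (X ↘ Spec (CommRingCat.of k))]

include k in
/-- Serre vanishing for an ample module on a proper curve, reducible or not. -/
theorem van (hdim : topologicalKrullDim X ≤ 1) {L : X.Modules} (hL : CohB1.IsAmple L) {F : X.Modules}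
    (hF : Coh.IsCoh F) : H97.CurveAmple.Van L F := by
  have := Curves.GlobalSections.isNoetherian_of_proper k X
  have hLi := (Ample.Pow.isAmple_iff.1 hL).1
  exact ProperFin.Devissage.devissage (H97.CurveAmple.SubVan L) ⊤
    (H97.CurveAmple.thick_subVan hdim hLi _)
    (fun y _ => ⟨_, Devissage.Closure.cohIn_closureStructureSheaf y,
      Devissage.Closure.length_closureStructureSheaf y,
      H97.CurveAmple.subVan_push _ hLi fun N hN => by
        let J := IntMult.ptIdeal y
        letI : J.subscheme.Over (Spec (CommRingCat.of k)) :=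
          ⟨J.subschemeι ≫ (X ↘ Spec (CommRingCat.of k))⟩
        haveI : IsProper (J.subscheme ↘ Spec (CommRingCat.of k)) :=
          inferInstanceAs (IsProper (J.subschemeι ≫ (X ↘ Spec (CommRingCat.of k))))
        have hr : Set.range J.subschemeι = closure ({y} : Set X) := by
          rw [Scheme.IdealSheafData.range_subschemeι]; exact rfl
        haveI : IsReduced J.subscheme := H75.RedSub.isReduced_vanishingIdeal _
        haveI : IrreducibleSpace J.subscheme := by
          have : IrreducibleSpace (closure ({y} : Set X) : Set X) :=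
            Subtype.irreducibleSpace isIrreducible_singleton.closure
          exact ((J.subschemeι.isClosedEmbedding.isEmbedding.toHomeomorph.trans
            (Homeomorph.setCongr hr)).symm.surjective).irreducibleSpace
            ((J.subschemeι.isClosedEmbedding.isEmbedding.toHomeomorph.trans
              (Homeomorph.setCongr hr)).symm.continuous)
        haveI : IsIntegral J.subscheme := isIntegral_of_irreducibleSpace_of_isReduced _
        exact H97.CurveAmple.van_of_isAmple k
          ((Topology.IsInducing.topologicalKrullDim_le J.subschemeι.isClosedEmbedding.isInducing).trans hdim)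
          (Ample.Pullback.isAmple_pullback J.subschemeι
            (Ample.Pullback.isQuasiAffine_of_isAffineHom _) hL) hN⟩)
    F ⟨hF, Set.subset_univ _⟩ F (𝟙 F) inferInstance hF

variable [IsReduced X] (hdim : topologicalKrullDim X ≤ 1) (hpure : ∀ x : X, ¬ IsOpen ({x} : Set X))
  {L : X.Modules} (hL : CohB1.IsAmple L)

include hdim hpure hL

/-- The multiplicity sees every component of the support. -/
theorem mult_pos_of_stalk {G : X.Modules} (hG : Coh.IsCoh G) {η : X} (hη : η ∈ genericPoints X)
    (h : ¬ Subsingleton (G.presheaf.stalk η)) : 0 < DecSh.mult k X L G := by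
  have := Curves.GlobalSections.isNoetherian_of_proper k X
  have := hG.1
  have hC : IsClosed (closure ({η} : Set X)) := isClosed_closure
  let ι := VecSt.subschι X _ hC
  let S := VecSt.subsch X _ hC
  haveI : IsReduced S := TFOne.Push.isReduced_subsch hC
  have hu : TFOne.Push.IsUnion (closure ({η} : Set X)) :=
    ⟨{closure ({η} : Set X)}, Set.singleton_subset_iff.mpr hη, (Set.sUnion_singleton _).symm⟩
  have hr : Set.range ι = closure ({η} : Set X) := TFOne.Push.range_subschι hC
  haveI : IrreducibleSpace S := by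
    have : IrreducibleSpace (closure ({η} : Set X) : Set X) :=
      Subtype.irreducibleSpace isIrreducible_singleton.closure
    exact ((ι.isClosedEmbedding.isEmbedding.toHomeomorph.trans
      (Homeomorph.setCongr hr)).symm.surjective).irreducibleSpace
      ((ι.isClosedEmbedding.isEmbedding.toHomeomorph.trans (Homeomorph.setCongr hr)).symm.continuous)
  haveI : IsIntegral S := isIntegral_of_irreducibleSpace_of_isReduced _
  haveI : IsLocallyNoetherian S := LocallyOfFiniteType.isLocallyNoetherian ι
  have hc := Cyc.FP.Stalk.isCoh_pullback ι hG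
  obtain ⟨T, q, hq, hTc, hTT, hinj⟩ :=
    CurveBundle.Saturation.exists_torsionFree_quotient ((Scheme.Modules.pullback ι).obj G) hc
  let H := (Scheme.Modules.pushforward ι).obj T
  let u := (Scheme.Modules.pullbackPushforwardAdjunction ι).unit.app G
  haveI : Epi u := PushClosed.Unit.epi_unit ι G
  haveI := hTc.1
  haveI := hc.1
  haveI : Epi ((Scheme.Modules.pushforward ι).map q) := (Scheme.Modules.pushforward ι).map_epi q
  have hHc : Coh.IsCoh H := Cyc.Dev.SchemeEquiv.isCoh_push ι hTc
  have hHT : TorSh.IsTorsionFree H := TFOne.Push.isTorsionFree_push hC hu hTT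
  let p : G ⟶ H := u ≫ (Scheme.Modules.pushforward ι).map q
  have hK := CohBasics.Closure.isCoh_kernel p hG hHc.1
  have hadd := Mult.mult_add k (S := ShortComplex.mk (kernel.ι p) p (kernel.condition p))
    (Ample.Pow.isAmple_iff.1 hL).1 { exact := ShortComplex.exact_kernel p } hK hG hHc
  dsimp only at hadd
  have h0 : ¬ IsZero H := by
    intro hz
    obtain ⟨ζ, hζ, hζη⟩ := TFOne.Push.exists_generic hC hη (subset_closure rfl)
    change ι ζ = η at hζη
    replace h : ¬ Subsingleton (G.presheaf.stalk (ι ζ)) := hζη.symm ▸ h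
    replace hη : ι ζ ∈ genericPoints X := hζη.symm ▸ hη

    have hζg : ζ = genericPoint S :=
      (Flat55.GenericPoints.eq_of_specializes hζ (genericPoint_specializes ζ)).symm
    refine h (subsingleton_of_forall_eq 0 fun v => ?_)
    have hb := PushClosed.Unit.bijective_pushStalkMap ι ((Scheme.Modules.pullback ι).obj G) ζ
    have hbT := PushClosed.Unit.bijective_pushStalkMap ι T ζ
    have hu0 : Modules.StalkModule.stalkMapₗ u (ι ζ) v = 0 := by
      have : Subsingleton (T.presheaf.stalk ζ) := by
        have := Modules.Stalk.isZero_iff_stalk_subsingleton.mp hz (ι ζ)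
        exact hbT.2.subsingleton
      have : Subsingleton (((Scheme.Modules.pullback ι).obj G).presheaf.stalk ζ) := by
        subst hζg
        exact hinj.subsingleton
      exact hb.1 (@Subsingleton.elim _ this _ _)
    have h1 := Cyc.Dev.SchemeCase.stalk_kernel_unit_le ι G ζ v hu0
    have hF : IsField (X.presheaf.stalk (ι ζ)) :=
      ModelFibre.MaxPoint.isField_stalk fun y hy => Flat55.GenericPoints.eq_of_specializes hη hy
    letI := hF.toField
    rw [(Ideal.eq_bot_or_top (RingHom.ker (ι.stalkMap ζ).hom)).resolve_right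
      (RingHom.ker_ne_top _), Submodule.bot_smul] at h1
    exact (Submodule.mem_bot _).mp h1
  linarith [Mult.mult_pos k hdim hpure hL hHc hHT h0, Mult.mult_nonneg k hdim hL hK]

/-- Multiplicity zero means finite support. -/
theorem torsion_of_mult_zero {G : X.Modules} (hG : Coh.IsCoh G)
    (h : DecSh.mult k X L G = 0) : ∀ η ∈ genericPoints X, Subsingleton (G.presheaf.stalk η) :=
  fun η hη => by
    by_contra hne
    linarith [mult_pos_of_stalk k hdim hpure hL hG hη hne]

theorem euler_nonneg_of_mult_zero {G : X.Modules} (hG : Coh.IsCoh G)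
    (h : DecSh.mult k X L G = 0) : 0 ≤ Curv2.euler k X G := by
  have := Curves.GlobalSections.noetherianSpace_of_proper k X
  exact TFOne.Euler.euler_nonneg hdim (torsion_of_mult_zero k hdim hpure hL hG h)

omit [IsReduced X] hdim hpure hL in
variable (L) in
/-- All coherent subsheaves of positive multiplicity have `χ < s α`. -/
def UB (G : X.Modules) (s : ℤ) : Prop :=
  ∀ (H : X.Modules) (i : H ⟶ G), Mono i → Coh.IsCoh H → 0 < DecSh.mult k X L H →
    Curv2.euler k X H < s * DecSh.mult k X L H

omit [IsReduced X] hdim hpure hL in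
variable (L) in
/-- All coherent quotients have `c α ≤ χ`. -/
def QB (G : X.Modules) (c : ℤ) : Prop :=
  ∀ (Q : X.Modules) (p : G ⟶ Q), Epi p → Coh.IsCoh Q →
    c * DecSh.mult k X L Q ≤ Curv2.euler k X Q

omit [IsReduced X] hdim hpure hL in
variable (L) in
/-- No coherent subsheaf of multiplicity zero. -/
def NT (G : X.Modules) : Prop :=
  ∀ (H : X.Modules) (i : H ⟶ G), Mono i → Coh.IsCoh H → DecSh.mult k X L H = 0 → IsZero H

omit [IsReduced X] hdim hpure hL in
lemma nt_of_mono {G G' : X.Modules} (j : G' ⟶ G) [Mono j] (h : NT k L G) : NT k L G' :=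
  fun H i _ => h H (i ≫ j) (mono_comp _ _)

omit [IsReduced X] hdim hpure hL in
lemma ub_of_mono {G G' : X.Modules} (j : G' ⟶ G) [Mono j] {s : ℤ} (h : UB k L G s) : UB k L G' s :=
  fun H i _ => h H (i ≫ j) (mono_comp _ _)

omit [IsReduced X] hdim hpure hL in
lemma ub_mono_s {G : X.Modules} {s s' : ℤ} (hs : s ≤ s') (h : UB k L G s) : UB k L G s' :=
  fun H i hi hH hp => (h H i hi hH hp).trans_le (mul_le_mul_of_nonneg_right hs hp.le)

omit [IsReduced X] hpure in
/-- Twisting shifts the bound. -/
lemma ub_twist {G A : X.Modules} (hA : PicF.IsInvertible A) (hG : Coh.IsCoh G) {a s : ℤ}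
    (hAd : ∀ H : X.Modules, Coh.IsCoh H →
      DecSh.mult k X L (CohB1.tensorMod H A) = DecSh.mult k X L H ∧
        Curv2.euler k X (CohB1.tensorMod H A) = Curv2.euler k X H + a * DecSh.mult k X L H)
    (h : UB k L G s) : UB k L (CohB1.tensorMod G A) (s + a) := by
  intro H i hi hH hp
  have hA' : PicF.IsInvertible (dual A) := TensorMod.Invertible.isInvertible_dual hA
  have := CurveBundle.Twist.isEquivalence hA'
  let e : CohB1.tensorMod (CohB1.tensorMod G A) (dual A) ≅ G :=
    assoc G A (dual A) ≪≫ tensorIso (Iso.refl _) (TensorMod.Invertible.tensorDualIso hA) ≪≫ rightUnit G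
  let e' : CohB1.tensorMod (CohB1.tensorMod H (dual A)) A ≅ H :=
    assoc H (dual A) A ≪≫ tensorIso (Iso.refl _) (comm (dual A) A ≪≫
      TensorMod.Invertible.tensorDualIso hA) ≪≫ rightUnit H
  have : Mono (tmap i (𝟙 (dual A))) := inferInstanceAs (Mono ((tensorBy (dual A)).map i))
  have hc := CurveBundle.Twist.isCoh hA' hH
  obtain ⟨e1, e2⟩ := hAd _ hc
  rw [Mult.mult_congr k e'] at e1
  rw [Curves.Euler.euler_eq_of_iso (k := k) e', ← e1] at e2
  have h1 := h _ (tmap i (𝟙 (dual A)) ≫ e.hom) (mono_comp _ _) hc (e1 ▸ hp)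
  rw [← e1] at h1
  linarith

omit hpure in
/-- Twisting by powers of `L`. -/
lemma ub_twist_pow {G : X.Modules} (hG : Coh.IsCoh G) (n : ℕ) {s : ℤ} (h : UB k L G s) :
    UB k L (CohB1.tensorMod G (CohB1.tensorPow L n)) (s + n) :=
  ub_twist k hdim hL (TensorMod.Invertible.isInvertible_tensorPow (Ample.Pow.isAmple_iff.1 hL).1 n) hG
    (fun _ hH => Mult.euler_twist_pow k hdim (Ample.Pow.isAmple_iff.1 hL).1 hH n) h

/-- A subsheaf of multiplicity zero of a torsion-free sheaf is zero. -/
theorem isZero_of_mult_zero {G H : X.Modules} (hT : TorSh.IsTorsionFree G) (i : H ⟶ G) [Mono i]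
    (hH : Coh.IsCoh H) (h : DecSh.mult k X L H = 0) : IsZero H := by
  by_contra h0
  linarith [Mult.mult_pos k hdim hpure hL hH (CurveBundle.Rank.isTorsionFree_of_mono i hT) h0]

omit [IsReduced X] hdim hpure hL in
include k in
/-- A section gives a coherent image, a quotient of `P`. -/
theorem exists_image {P G : X.Modules} (hP : Coh.IsCoh P) (hG : Coh.IsCoh G) (w : P ⟶ G)
    (hw : w ≠ 0) : ∃ (J : X.Modules) (p : P ⟶ J) (j : J ⟶ G), Epi p ∧ Mono j ∧ p ≫ j = w ∧
      Coh.IsCoh J ∧ ¬ IsZero J := by
  have := Curves.GlobalSections.isNoetherian_of_proper k X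
  have hK := CohBasics.Closure.isCoh_kernel w hP hG.1
  refine ⟨Abelian.coimage w, Abelian.coimage.π w, Abelian.factorThruCoimage w, inferInstance,
    inferInstance, Abelian.coimage.fac w, CohBasics.Closure.isCoh_cokernel _ hK.1 hP, fun hz => hw ?_⟩
  rw [← Abelian.coimage.fac w, hz.eq_of_src (Abelian.factorThruCoimage w) 0, comp_zero]

/-- Very negative sheaves have no sections. -/
theorem no_sections {G : X.Modules} (hG : Coh.IsCoh G) (hT : NT k L G)
    (h : UB k L G (-(Curves.Euler.hdim k X (Coh.structureModule X) 1 : ℤ))) :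
    Subsingleton (Coh.HH X G 0) := by
  have := Curves.GlobalSections.noetherianSpace_of_proper k X
  refine not_nontrivial_iff_subsingleton.mp fun hn => ?_
  obtain ⟨w, hw⟩ := Curves.Positivity.exists_section_of_nontrivial hn
  have hO := Snapper.Twist.isCoh_structureModule X
  obtain ⟨J, p, j, hp, hj, -, hJ, hJ0⟩ := exists_image k hO hG w hw
  have hJp : 0 < DecSh.mult k X L J :=
    (Mult.mult_nonneg k hdim hL hJ).lt_of_ne fun h0 => hJ0 (hT J j hj hJ h0.symm)
  have h1 : Curves.Euler.hdim k X J 1 ≤ Curves.Euler.hdim k X (Coh.structureModule X) 1 := by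
    have := Snapper.Finite.cohFinite k X _ hO 1
    refine LinearMap.finrank_le_finrank_of_surjective (f := Curves.LES.mapK k p 1) fun y => ?_
    have hS : (ShortComplex.mk (kernel.ι p) p (kernel.condition p)).ShortExact :=
      { exact := ShortComplex.exact_kernel p }
    have := Curves.Positivity.subsingleton_HH_of_two_le hdim (kernel p) 2 le_rfl
    exact (Curves.LES.exactK₃ k hS 1 2 rfl y).mp (Subsingleton.elim _ _)
  have he := Curves.Euler.euler_eq (k := k) (F := J)
    (Curves.Positivity.subsingleton_HH_of_two_le hdim _)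
  have h2 := h J j hj hJ hJp
  have h3 : (Curves.Euler.hdim k X (Coh.structureModule X) 1 : ℤ) * 1 ≤
      (Curves.Euler.hdim k X (Coh.structureModule X) 1 : ℤ) * DecSh.mult k X L J :=
    mul_le_mul_of_nonneg_left hJp (Int.natCast_nonneg _)
  linarith [Int.natCast_nonneg (Curves.Euler.hdim k X J 0)]

omit hpure in
/-- Twisting by an invertible preserves the absence of torsion. -/
lemma nt_twist {G A : X.Modules} (hA : PicF.IsInvertible A)
    (hAd : ∀ H : X.Modules, Coh.IsCoh H →
      DecSh.mult k X L (CohB1.tensorMod H A) = DecSh.mult k X L H) (h : NT k L G) :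
    NT k L (CohB1.tensorMod G A) := by
  intro H i hi hH h0
  have hA' : PicF.IsInvertible (dual A) := TensorMod.Invertible.isInvertible_dual hA
  have := CurveBundle.Twist.isEquivalence hA'
  let e : CohB1.tensorMod (CohB1.tensorMod G A) (dual A) ≅ G :=
    assoc G A (dual A) ≪≫ tensorIso (Iso.refl _) (TensorMod.Invertible.tensorDualIso hA) ≪≫ rightUnit G
  let e' : CohB1.tensorMod (CohB1.tensorMod H (dual A)) A ≅ H :=
    assoc H (dual A) A ≪≫ tensorIso (Iso.refl _) (comm (dual A) A ≪≫
      TensorMod.Invertible.tensorDualIso hA) ≪≫ rightUnit H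
  have : Mono (tmap i (𝟙 (dual A))) := inferInstanceAs (Mono ((tensorBy (dual A)).map i))
  have hc := CurveBundle.Twist.isCoh hA' hH
  have e1 := hAd _ hc
  rw [Mult.mult_congr k e', h0] at e1
  have hz := h _ (tmap i (𝟙 (dual A)) ≫ e.hom) (mono_comp _ _) hc e1.symm
  exact (Functor.map_isZero (tensorBy A) hz).of_iso e'.symm

/-- A twist with a monomorphism from `G`, of torsion cokernel. -/
theorem exists_twist_ses : ∃ N : ℕ, 0 < N ∧ ∀ G : X.Modules, Coh.IsCoh G → NT k L G →
    ∃ φ : G ⟶ CohB1.tensorMod G (CohB1.tensorPow L N), Mono φ ∧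
      ∀ η ∈ genericPoints X, Subsingleton ((cokernel φ).presheaf.stalk η) := by
  have := Curves.GlobalSections.isNoetherian_of_proper k X
  have hLi := (Ample.Pow.isAmple_iff.1 hL).1
  have hfin : (genericPoints X).Finite := genericPoints.finite NoetherianSpace.finite_irreducibleComponents
  obtain ⟨N, hN, s₀, hs₀, -, -⟩ := Ample.Basis.exists_locus_of_finite hL _ hfin ⊤ (fun _ _ => trivial)
  have hA := TensorMod.Invertible.isInvertible_tensorPow hLi N
  refine ⟨N, hN, fun G hG hT => ?_⟩
  let φ := H97.CurveVanishing.twHom (F := G) s₀ 1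
  have hgen : ∀ η ∈ genericPoints X, Function.Bijective (Modules.StalkModule.stalkMapₗ φ η) :=
    fun η hη => Mult.bijective_stalk s₀ hA hG 1 (hs₀ hη)
  have := hG.1
  have hc1 := CurveBundle.Twist.isCoh (TensorMod.Invertible.isInvertible_tensorPow hA 1) hG
  have hK := CohBasics.Closure.isCoh_kernel φ hG hc1.1
  have hK0 : IsZero (kernel φ) := by
    refine hT _ (kernel.ι φ) inferInstance hK ?_
    have ht : ∀ η ∈ genericPoints X, Subsingleton ((kernel φ).presheaf.stalk η) := fun η hη =>
      subsingleton_of_forall_eq 0 fun v => by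
        refine (Modules.StalkModule.mono_iff_stalkMapₗ_injective (kernel.ι φ)).mp inferInstance η
          ((hgen η hη).1 ?_)
        rw [← LinearMap.comp_apply, ← Modules.StalkModule.stalkMapₗ_comp, kernel.condition,
          Modules.StalkModule.stalkMapₗ_zero, LinearMap.zero_apply, map_zero, map_zero]
    rw [DecSh.mult, Curves.Euler.euler_eq_of_iso (k := k) (comm (kernel φ) L),
      TFOne.EDeg.euler_tensor_torsion (k := k) hdim (TensorMod.LocFree.of_isInvertible hLi) hK ht]
    simp
  have : Mono φ := Preadditive.mono_of_kernel_zero (hK0.eq_of_src _ _)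
  let e := tensorIso (Iso.refl G) (leftUnit (CohB1.tensorPow L N))
  let φ' : G ⟶ CohB1.tensorMod G (CohB1.tensorPow L N) := φ ≫ e.hom
  refine ⟨φ', mono_comp _ _, fun η hη => subsingleton_of_forall_eq 0 fun v => ?_⟩
  obtain ⟨w, rfl⟩ := (Modules.StalkModule.epi_iff_stalkMapₗ_surjective
    (cokernel.π φ')).mp inferInstance η v
  obtain ⟨u, rfl⟩ := (Modules.StalkModule.epi_iff_stalkMapₗ_surjective e.hom).mp inferInstance η w
  obtain ⟨t, rfl⟩ := (hgen η hη).2 u
  have h0 : Modules.StalkModule.stalkMapₗ (φ' ≫ cokernel.π φ') η t = 0 := by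
    rw [cokernel.condition, Modules.StalkModule.stalkMapₗ_zero, LinearMap.zero_apply]
  rw [Modules.StalkModule.stalkMapₗ_comp, LinearMap.comp_apply] at h0
  refine Eq.trans (congrArg _ ?_) h0
  exact (LinearMap.congr_fun (Modules.StalkModule.stalkMapₗ_comp φ e.hom η) t).symm

/-- `h⁰ ≤ (s + const) α`. -/
theorem exists_h0_bound : ∃ C : ℕ, ∀ (s : ℤ) (G : X.Modules), Coh.IsCoh G → NT k L G →
    UB k L G s → (Curves.Euler.hdim k X G 0 : ℤ) ≤ max 0 (s + C) * DecSh.mult k X L G := by
  have := Curves.GlobalSections.isNoetherian_of_proper k X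
  have hLi := (Ample.Pow.isAmple_iff.1 hL).1
  obtain ⟨N, hN, hφ⟩ := exists_twist_ses k hdim hpure hL
  have hA := TensorMod.Invertible.isInvertible_tensorPow hLi N
  set g := Curves.Euler.hdim k X (Coh.structureModule X) 1
  have key : ∀ (m : ℕ) (G : X.Modules), Coh.IsCoh G → NT k L G →
      UB k L G (-(g : ℤ) + m * N) →
      (Curves.Euler.hdim k X G 0 : ℤ) ≤ (m * N : ℤ) * DecSh.mult k X L G := by
    intro m
    induction m with
    | zero =>
      intro G hG hT h
      have := no_sections k hdim hpure hL hG hT (by simpa using h)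
      simp [Curves.Euler.hdim, Module.finrank_zero_of_subsingleton]
    | succ m ih =>
      intro G hG hT h
      let A := CohB1.tensorPow L N
      have hA' : PicF.IsInvertible (dual A) := TensorMod.Invertible.isInvertible_dual hA
      let G' := CohB1.tensorMod G (dual A)
      have hc : Coh.IsCoh G' := CurveBundle.Twist.isCoh hA' hG
      let e' : ∀ H : X.Modules, CohB1.tensorMod (CohB1.tensorMod H (dual A)) A ≅ H := fun H =>
        assoc H (dual A) A ≪≫ tensorIso (Iso.refl _) (comm (dual A) A ≪≫
          TensorMod.Invertible.tensorDualIso hA) ≪≫ rightUnit H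
      have hd : ∀ H : X.Modules, Coh.IsCoh H →
          DecSh.mult k X L (CohB1.tensorMod H (dual A)) = DecSh.mult k X L H ∧
            Curv2.euler k X (CohB1.tensorMod H (dual A)) =
              Curv2.euler k X H + (-(N : ℤ)) * DecSh.mult k X L H := fun H hH => by
        obtain ⟨h1, h2⟩ := Mult.euler_twist_pow k hdim hLi (CurveBundle.Twist.isCoh hA' hH) N
        rw [Mult.mult_congr k (e' H)] at h1
        rw [Curves.Euler.euler_eq_of_iso (k := k) (e' H), ← h1] at h2
        exact ⟨h1.symm, by linarith⟩
      have hT' : NT k L G' := nt_twist k hdim hL hA' (fun H hH => (hd H hH).1) hT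
      have hU : UB k L G' (-(g : ℤ) + m * N) :=
        ub_mono_s k (le_of_eq (by push_cast; ring)) (ub_twist k hdim hL hA' hG hd h)
      have h1 := ih G' hc hT' hU
      obtain ⟨φ, hm, hQ0'⟩ := hφ G' hc hT'
      have := hc.1
      have hc1 := CurveBundle.Twist.isCoh hA hc
      have hQ := CohBasics.Closure.isCoh_cokernel φ hc.1 hc1
      have hQ0 : Curves.Positivity.IsTorsion (cokernel φ) := hQ0'
      have hS : (ShortComplex.mk φ (cokernel.π φ) (cokernel.condition φ)).ShortExact :=
        { exact := ShortComplex.exact_cokernel φ }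
      have he := ParBun.Proper.euler_add (k := k) hS hc hc1 hQ
      dsimp only at he
      obtain ⟨e1, e2⟩ := hd G hG
      rw [(Mult.euler_twist_pow k hdim hLi hc N).2, hQ0.euler hdim] at he
      let eG : CohB1.tensorMod G' A ≅ G := e' G
      have := Snapper.Finite.cohFinite k X _ hc 0
      have := Snapper.Finite.cohFinite k X _ hQ 0
      have h2 := Curves.Euler.hdim_zero_le_add (k := k) hS
      have h3 : Curves.Euler.hdim k X G 0 =
          Curves.Euler.hdim k X (CohB1.tensorMod G' A) 0 :=
        (Curves.LES.isoK k eG 0).finrank_eq.symm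
      have h4 : (Curves.Euler.hdim k X (CohB1.tensorMod G' A) 0 : ℤ) ≤
          Curves.Euler.hdim k X G' 0 + Curves.Euler.hdim k X (cokernel φ) 0 := by exact_mod_cast h2
      rw [show DecSh.mult k X L G' = DecSh.mult k X L G from e1] at h1 he
      rw [h3]
      push_cast
      linarith
  refine ⟨g + N, fun s G hG hT h => ?_⟩
  have hN' : (0 : ℤ) < N := by exact_mod_cast hN
  set q := max 0 (s + g + N - 1) / (N : ℤ) with hq
  have hq0 : 0 ≤ q := Int.ediv_nonneg (le_max_left _ _) hN'.le
  obtain ⟨m, hm⟩ := Int.eq_ofNat_of_zero_le hq0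
  have h1 : max 0 (s + g + N - 1) < (m : ℤ) * N + N := by
    have := Int.lt_ediv_add_one_mul_self (max 0 (s + g + N - 1)) hN'
    rw [← hq, hm] at this
    linarith
  have h2 : (m : ℤ) * N ≤ max 0 (s + g + N - 1) := by
    have := Int.ediv_mul_le (max 0 (s + g + N - 1)) hN'.ne'
    rw [← hq, hm] at this
    exact this
  refine (key m G hG hT (ub_mono_s k ?_ h)).trans
    (mul_le_mul_of_nonneg_right ?_ (Mult.mult_nonneg k hdim hL hG))
  · omega
  · push_cast
    omega

/-- `H¹` vanishes when all quotients are big. -/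
theorem exists_h1_vanish : ∃ c : ℤ, 0 ≤ c ∧ ∀ G : X.Modules, Coh.IsCoh G → QB k L G c →
    Subsingleton (Coh.HH X G 1) := by
  have := Curves.GlobalSections.isNoetherian_of_proper k X
  have hLi := (Ample.Pow.isAmple_iff.1 hL).1
  have hO := Snapper.Twist.isCoh_structureModule X
  obtain ⟨M, hM⟩ := Filter.eventually_atTop.mp (van k hdim hL hO)
  refine ⟨M + 1, by omega, fun G hG h => ?_⟩
  have hA := TensorMod.Invertible.isInvertible_tensorPow hLi M
  suffices ∀ (d e : ℕ) (G : X.Modules), Coh.IsCoh G → QB k L G (M + 1) →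
      DecSh.mult k X L G ≤ d → Curv2.euler k X G - (M + 1) * DecSh.mult k X L G ≤ e →
      Subsingleton (Coh.HH X G 1) from
    this _ _ G hG h (Int.self_le_toNat _) (Int.self_le_toNat _)
  intro d
  induction d using Nat.strong_induction_on with
  | _ d ihd =>
  intro e
  induction e using Nat.strong_induction_on with
  | _ e ihe =>
  intro G hG h hd he
  rcases (Mult.mult_nonneg k hdim hL hG).eq_or_lt with hz | hpos
  · exact Curves.Positivity.IsTorsion.subsingleton_HH_succ hdim
      (fun η hη => torsion_of_mult_zero k hdim hpure hL hG hz.symm η hη) 0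
  let A := CohB1.tensorPow L M
  have hA' : PicF.IsInvertible (dual A) := TensorMod.Invertible.isInvertible_dual hA
  have hc : Coh.IsCoh (CohB1.tensorMod G (dual A)) := CurveBundle.Twist.isCoh hA' hG
  let eA : CohB1.tensorMod (CohB1.tensorMod G (dual A)) A ≅ G :=
    assoc G (dual A) A ≪≫ tensorIso (Iso.refl _) (comm (dual A) A ≪≫
      TensorMod.Invertible.tensorDualIso hA) ≪≫ rightUnit G
  obtain ⟨e1, e2⟩ := Mult.euler_twist_pow k hdim hLi hc M
  rw [Mult.mult_congr k eA] at e1
  rw [Curves.Euler.euler_eq_of_iso (k := k) eA, ← e1] at e2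
  have hGq := h G (𝟙 G) inferInstance hG
  have heu := Curves.Euler.euler_eq (k := k) (F := CohB1.tensorMod G (dual A))
    (Curves.Positivity.subsingleton_HH_of_two_le hdim _)
  have hnt : Nontrivial (Coh.HH X (CohB1.tensorMod G (dual A)) 0) := by
    refine not_subsingleton_iff_nontrivial.1 fun hs => ?_
    have h0 : Curves.Euler.hdim k X (CohB1.tensorMod G (dual A)) 0 = 0 :=
      Module.finrank_zero_of_subsingleton
    rw [h0] at heu
    push_cast at heu
    linarith [Int.natCast_nonneg (Curves.Euler.hdim k X (CohB1.tensorMod G (dual A)) 1)]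
  obtain ⟨s, hs⟩ := Curves.Positivity.exists_section_of_nontrivial hnt
  have hsA := CurveBundle.Twist.isEquivalence hA
  let w : CohB1.tensorMod (Coh.structureModule X) A ⟶ G := tmap s (𝟙 A) ≫ eA.hom
  have hw : w ≠ 0 := fun h0 => hs (by
    have h1 : tmap s (𝟙 A) = 0 := (cancel_mono eA.hom).mp (h0.trans zero_comp.symm)
    exact (tensorBy A).map_injective (h1.trans (TensorMod.Integral.tmap_zero_left _ _ A).symm))
  obtain ⟨J, p, j, hp, hj, -, hJ, hJ0⟩ := exists_image k (CurveBundle.Twist.isCoh hA hO) hG w hw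
  have hJ1 : Subsingleton (Coh.HH X J 1) := H34.HOne.h1_of_epi hdim p (hM M le_rfl)
  have hQ := CohBasics.Closure.isCoh_cokernel j hJ.1 hG
  have hS : (ShortComplex.mk j (cokernel.π j) (cokernel.condition j)).ShortExact :=
    { exact := ShortComplex.exact_cokernel j }
  have ha := Mult.mult_add k hLi hS hJ hG hQ
  have hx := ParBun.Proper.euler_add (k := k) hS hJ hG hQ
  dsimp only at ha hx
  have hQb : QB k L (cokernel j) (M + 1) := fun Q q hq hQc =>
    h Q (cokernel.π j ≫ q) (epi_comp _ _) hQc
  refine H34.HOne.h1_of_shortExact hS hJ1 ?_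
  have hQn := Mult.mult_nonneg k hdim hL hQ
  have hQq := h (cokernel j) (cokernel.π j) inferInstance hQ
  rcases (Mult.mult_nonneg k hdim hL hJ).eq_or_lt with hJz | hJp
  · have hJχ : 0 < Curv2.euler k X J := by
      refine lt_of_le_of_ne (euler_nonneg_of_mult_zero k hdim hpure hL hJ hJz.symm) fun h0 => hJ0 ?_
      exact TFOne.ModBeta.isZero_of_euler (k := k) hdim hJ
        (torsion_of_mult_zero k hdim hpure hL hJ hJz.symm) h0.symm
    have hmz : DecSh.mult k X L (cokernel j) = DecSh.mult k X L G := by linarith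
    refine ihe (Curv2.euler k X (cokernel j) - (M + 1) * DecSh.mult k X L (cokernel j)).toNat ?_
      _ hQ hQb (by linarith) (Int.self_le_toNat _)
    rw [hmz] at hQq ⊢
    omega
  · refine ihd (DecSh.mult k X L (cokernel j)).toNat ?_
      (Curv2.euler k X (cokernel j) - (M + 1) * DecSh.mult k X L (cokernel j)).toNat _ hQ hQb
      (Int.self_le_toNat _) (Int.self_le_toNat _)
    omega

omit [IsReduced X] hpure in
/-- A quotient of least `χ - c α`, among those below. -/
theorem exists_min_quot {G : X.Modules} (hG : Coh.IsCoh G) {c : ℤ} (hh : ¬ QB k L G c) :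
    ∃ (Q : X.Modules) (p : G ⟶ Q), Epi p ∧ Coh.IsCoh Q ∧
      Curv2.euler k X Q < c * DecSh.mult k X L Q ∧
      ∀ (H : X.Modules) (i : H ⟶ Q), Mono i → Coh.IsCoh H →
        Curv2.euler k X H ≤ c * DecSh.mult k X L H := by
  have := Curves.GlobalSections.isNoetherian_of_proper k X
  have hLi := (Ample.Pow.isAmple_iff.1 hL).1
  obtain ⟨z, ⟨Q, p, hp, hQ, hz⟩, hmin⟩ := Int.exists_least_of_bdd
    (P := fun z => ∃ (Q : X.Modules) (p : G ⟶ Q), Epi p ∧ Coh.IsCoh Q ∧
      Curv2.euler k X Q - c * DecSh.mult k X L Q = z)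
    ⟨Curv2.euler k X G - (Curves.Euler.hdim k X G 0 : ℤ) - |c| * DecSh.mult k X L G, fun z h => by
      obtain ⟨Q, p, hp, hQ, rfl⟩ := h
      have hK := CohBasics.Closure.isCoh_kernel p hG hQ.1
      have hS : (ShortComplex.mk (kernel.ι p) p (kernel.condition p)).ShortExact :=
        { exact := ShortComplex.exact_kernel p }
      have ha := Mult.mult_add k hLi hS hK hG hQ
      have hx := ParBun.Proper.euler_add (k := k) hS hK hG hQ
      dsimp only at ha hx
      have := Snapper.Finite.cohFinite k X G hG 0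
      have h1 : (Curves.Euler.hdim k X (kernel p) 0 : ℤ) ≤ Curves.Euler.hdim k X G 0 := by
        exact_mod_cast Curves.Euler.hdim_zero_le_of_mono (k := k) (kernel.ι p)
      have he := Curves.Euler.euler_eq (k := k) (F := kernel p)
        (Curves.Positivity.subsingleton_HH_of_two_le hdim _)
      have h2 := Mult.mult_nonneg k hdim hL hK
      have h3 := Mult.mult_nonneg k hdim hL hQ
      have h4 : c * DecSh.mult k X L Q ≤ |c| * DecSh.mult k X L G :=
        (mul_le_mul_of_nonneg_right (le_abs_self c) h3).trans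
          (mul_le_mul_of_nonneg_left (by linarith) (abs_nonneg c))
      linarith [Int.natCast_nonneg (Curves.Euler.hdim k X (kernel p) 1)]⟩
    ⟨_, G, 𝟙 G, inferInstance, hG, rfl⟩
  refine ⟨Q, p, hp, hQ, ?_, fun H i hi hH => ?_⟩
  · by_contra hge
    refine hh fun Q' p' hp' hQ' => ?_
    have := hmin _ ⟨Q', p', hp', hQ', rfl⟩
    omega
  · have hR := CohBasics.Closure.isCoh_cokernel i hH.1 hQ
    have hS : (ShortComplex.mk i (cokernel.π i) (cokernel.condition i)).ShortExact :=
      { exact := ShortComplex.exact_cokernel i }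
    have ha := Mult.mult_add k hLi hS hH hQ hR
    have hx := ParBun.Proper.euler_add (k := k) hS hH hQ hR
    dsimp only at ha hx
    have hm := hmin _ ⟨cokernel i, p ≫ cokernel.π i, epi_comp _ _, hR, rfl⟩
    rw [← hz, ha, hx] at hm
    linarith

/-- A minimal destabilising quotient is torsion-free and bounded above. -/
theorem ub_min_quot {Q : X.Modules} {c : ℤ} (hQc : Coh.IsCoh Q)
    (h : ∀ (H : X.Modules) (i : H ⟶ Q), Mono i → Coh.IsCoh H →
      Curv2.euler k X H ≤ c * DecSh.mult k X L H) :
    UB k L Q (c + 1) ∧ ∀ (H : X.Modules) (i : H ⟶ Q), Mono i → Coh.IsCoh H →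
      DecSh.mult k X L H = 0 → IsZero H := by
  refine ⟨fun H i hi hH hp => (h H i hi hH).trans_lt (by linarith), fun H i hi hH h0 => ?_⟩
  have h1 := h H i hi hH
  rw [h0, mul_zero] at h1
  exact TFOne.ModBeta.isZero_of_euler (k := k) hdim hH (torsion_of_mult_zero k hdim hpure hL hH h0)
    (le_antisymm h1 (euler_nonneg_of_mult_zero k hdim hpure hL hH h0))

end Groth.Agent.Lib.DecShLib.Sec
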